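import Groth.Agent.ProjCoord.Span
import Mathlib.AlgebraicGeometry.Morphisms.Proper
import Mathlib.AlgebraicGeometry.ProjectiveSpectrum.Proper

/-! More on projective space. -/

universe u

set_option autoImplicit false
set_option linter.style.haveILetI false

namespace Groth.Agent.ProjCoord

open CategoryTheory CategoryTheory.Limits AlgebraicGeometry HomogeneousLocalization MvPolynomial CohB1

variable {R : Type u} [CommRing R] {n : ℕ}

/-- Inverse image of the non-vanishing locus of a linear form. -/
lemma pt_preimage_form {T : Scheme.{u}} (ρ : R →+* Γ(T, ⊤)) (v : Fin (n + 1) → Γ(T, ⊤))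
    (i : Fin (n + 1)) (hi : IsUnit (v i)) (f : MvPolynomial (Fin (n + 1)) R)
    (hf : f ∈ polyGrading n R 1) :
    pt ρ v i hi ⁻¹ᵁ Proj.basicOpen (polyGrading n R) f = T.basicOpen (eval₂Hom ρ v f) := by
  simp only [pt, Scheme.Hom.comp_preimage]
  rw [Proj.awayι_preimage_basicOpen (polyGrading n R) (X_mem i) one_pos hf one_pos]
  erw [Scheme.toSpecΓ_preimage_basicOpen]
  have h := awayEval_mk (𝒜 := polyGrading n R) (x := X i) (eval₂Hom ρ v) (by rwa [eval₂Hom_X'])
    (X_mem i) 1 (f ^ 1) (by rw [pow_one]; exact hf)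
  simp only [pow_one, eval₂Hom_X'] at h
  rw [← h, Scheme.basicOpen_mul, Scheme.basicOpen_of_isUnit _ hi, inf_top_eq]
  congr 1
  simp [Away.isLocalizationElem]

lemma algebraMap_zero_surjective :
    Function.Surjective (algebraMap R (polyGrading n R 0)) := by
  rintro ⟨p, hp⟩
  refine ⟨coeff 0 p, Subtype.ext ?_⟩
  have hdeg : p.totalDegree = 0 := by
    by_cases h0 : p = 0
    · simp [h0]
    · exact hp.totalDegree h0
  exact (totalDegree_eq_zero_iff_eq_C.mp hdeg).symm

instance finiteType_polyGrading : Algebra.FiniteType (polyGrading n R 0) (MvPolynomial (Fin (n + 1)) R) :=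
  haveI : IsScalarTower R (polyGrading n R 0) (MvPolynomial (Fin (n + 1)) R) :=
    IsScalarTower.of_algebraMap_eq (R := R) (S := polyGrading n R 0)
      (A := MvPolynomial (Fin (n + 1)) R) fun _ => rfl
  Algebra.FiniteType.of_restrictScalars_finiteType R _ _

instance isProper_baseMap : IsProper (baseMap n R) := by
  haveI : IsClosedImmersion (Spec.map (CommRingCat.ofHom (algebraMap R (polyGrading n R 0)))) :=
    IsClosedImmersion.spec_of_surjective _ algebraMap_zero_surjective
  infer_instance

/-- `P⁰_R = Spec R`. -/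
instance isIso_baseMap_zero : IsIso (baseMap 0 R) := by
  have htop : IsIso (Proj.awayι (polyGrading 0 R) (X 0) (X_mem 0) one_pos) := by
    haveI : Epi (Proj.awayι (polyGrading 0 R) (X 0) (X_mem 0) one_pos).base := by
      rw [TopCat.epi_iff_surjective]
      intro x
      obtain ⟨⟨i⟩, y, hy⟩ : ∃ p y, (cover 0 R).openCover.f p y = x := ⟨_, (cover 0 R).openCover.covers x⟩
      obtain rfl : i = 0 := @Subsingleton.elim (Fin 1) _ _ _
      exact ⟨y, hy⟩
    exact IsOpenImmersion.isIso _
  have hc : Function.Bijective (const (n := 0) (R := R) 0) := by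
    have hinv : (awayEval (𝒜 := polyGrading 0 R) (x := X 0) (eval₂Hom (RingHom.id R) fun _ => 1)
        (by simp)).comp (const 0) = RingHom.id R := awayEval_const _ _ _ _
    refine ⟨Function.LeftInverse.injective (g := awayEval (𝒜 := polyGrading 0 R) (x := X 0)
      (eval₂Hom (RingHom.id R) fun _ => 1) (by simp)) fun r => RingHom.congr_fun hinv r, fun z => ⟨awayEval
      (𝒜 := polyGrading 0 R) (x := X 0) (eval₂Hom (RingHom.id R) fun _ => 1) (by simp) z, ?_⟩⟩
    refine RingHom.congr_fun (f := (const (R := R) (n := 0) 0).comp _) (g := RingHom.id _) ?_ z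
    apply away_hom_ext
    · rw [RingHom.comp_assoc, hinv, RingHom.comp_id, RingHom.id_comp]
    · intro k
      obtain rfl : k = 0 := @Subsingleton.elim (Fin 1) _ _ _
      rw [RingHom.comp_apply, ratio_self, map_one, map_one, map_one]
  let e := RingEquiv.ofBijective _ hc
  haveI : IsIso (Proj.awayι (polyGrading 0 R) (X 0) (X_mem 0) one_pos ≫ baseMap 0 R) := by
    rw [show Proj.awayι (polyGrading 0 R) (X 0) (X_mem 0) one_pos ≫ baseMap 0 R =
        Spec.map e.toCommRingCatIso.hom by
      show Proj.awayι _ (X 0) _ _ ≫ Proj.toSpecZero _ ≫ Spec.map _ = _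
      rw [Proj.awayι_toSpecZero_assoc, ← Spec.map_comp]; rfl]
    infer_instance
  exact IsIso.of_isIso_comp_left (Proj.awayι (polyGrading 0 R) (X 0) (X_mem 0) one_pos) _

/-- Base change of a morphism of a product of two projective spaces over `ℤ`. -/
theorem exists_baseChange (P : MorphismProperty Scheme.{u}) [P.IsStableUnderBaseChange]
    (S : Scheme.{u}) (n m N : ℕ)
    (φ : pullback (ProjSpace.toSpec n (ULift.{u} ℤ)) (ProjSpace.toSpec m (ULift.{u} ℤ)) ⟶
      ProjSpace N (ULift.{u} ℤ)) (hφ : P φ)
    (hφt : φ ≫ ProjSpace.toSpec N (ULift.{u} ℤ) = pullback.fst _ _ ≫ ProjSpace.toSpec n (ULift.{u} ℤ)) :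
    ∃ ψ : pullback (ProjSpaceOver.toBase n S) (ProjSpaceOver.toBase m S) ⟶ ProjSpaceOver N S,
      P ψ ∧ ψ ≫ ProjSpaceOver.toBase N S =
        pullback.fst (ProjSpaceOver.toBase n S) (ProjSpaceOver.toBase m S) ≫ ProjSpaceOver.toBase n S := by
  delta ProjSpaceOver.toBase ProjSpaceOver
  let t := specULiftZIsTerminal.from S
  let β : pullback (pullback.snd (ProjSpace.toSpec n (ULift.{u} ℤ)) t)
        (pullback.snd (ProjSpace.toSpec m (ULift.{u} ℤ)) t) ⟶
      pullback (ProjSpace.toSpec n (ULift.{u} ℤ)) (ProjSpace.toSpec m (ULift.{u} ℤ)) :=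
    pullback.lift (pullback.fst _ _ ≫ pullback.fst _ _) (pullback.snd _ _ ≫ pullback.fst _ _)
      (specULiftZIsTerminal.hom_ext _ _)
  let base := pullback.fst (pullback.snd (ProjSpace.toSpec n (ULift.{u} ℤ)) t)
      (pullback.snd (ProjSpace.toSpec m (ULift.{u} ℤ)) t) ≫ pullback.snd _ _
  have hb : IsPullback β base (pullback.fst _ _ ≫ ProjSpace.toSpec n (ULift.{u} ℤ)) t := by
    refine IsPullback.of_isLimit' ⟨specULiftZIsTerminal.hom_ext _ _⟩ (PullbackCone.IsLimit.mk _
      (fun s => pullback.lift
        (pullback.lift (s.fst ≫ pullback.fst _ _) s.snd (specULiftZIsTerminal.hom_ext _ _))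
        (pullback.lift (s.fst ≫ pullback.snd _ _) s.snd (specULiftZIsTerminal.hom_ext _ _))
        ((pullback.lift_snd _ _ _).trans (pullback.lift_snd _ _ _).symm)) ?_ ?_ ?_)
    · intro s
      apply pullback.hom_ext
      · simp only [β, Category.assoc, pullback.lift_fst]
        exact (pullback.lift_fst_assoc _ _ _ _).trans (pullback.lift_fst _ _ _)
      · simp only [β, Category.assoc, pullback.lift_snd]
        exact (pullback.lift_snd_assoc _ _ _ _).trans (pullback.lift_fst _ _ _)
    · intro s
      exact (pullback.lift_fst_assoc _ _ _ _).trans (pullback.lift_snd _ _ _)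
    · intro s m' h1 h2
      have e1 := congrArg (fun f => f ≫ pullback.fst _ _) h1
      have e2 := congrArg (fun f => f ≫ pullback.snd _ _) h1
      simp only [β, Category.assoc, pullback.lift_fst, pullback.lift_snd] at e1 e2
      have h2' : m' ≫ pullback.snd _ _ ≫ pullback.snd (ProjSpace.toSpec m (ULift.{u} ℤ)) t = s.snd := by
        rw [← pullback.condition]; exact h2
      apply pullback.hom_ext <;> apply pullback.hom_ext <;>
        simp only [Category.assoc, pullback.lift_fst, pullback.lift_snd]
      · exact e1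
      · exact h2
      · exact e2
      · exact h2'
  let ψ : pullback (pullback.snd (ProjSpace.toSpec n (ULift.{u} ℤ)) t)
      (pullback.snd (ProjSpace.toSpec m (ULift.{u} ℤ)) t) ⟶
      pullback (ProjSpace.toSpec N (ULift.{u} ℤ)) t :=
    pullback.lift (β ≫ φ) base (specULiftZIsTerminal.hom_ext _ _)
  have hψ : IsPullback β ψ φ (pullback.fst _ _) := by
    refine IsPullback.of_bot ?_ (pullback.lift_fst _ _ _).symm (IsPullback.of_hasPullback _ _)
    rw [show ψ ≫ pullback.snd _ _ = base from pullback.lift_snd _ _ _, hφt]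
    exact hb
  exact ⟨ψ, MorphismProperty.of_isPullback hψ hφ, pullback.lift_snd _ _ _⟩

end Groth.Agent.ProjCoord
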