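import Groth.Prelude.Def_CohB1
import Groth.Agent.EGA2G.Graded
import Mathlib.RingTheory.MvPolynomial.Ideal

/-! Morphisms to projective space given by homogeneous coordinates. -/

universe u

set_option autoImplicit false
set_option linter.style.haveILetI false

namespace Groth.Agent.ProjCoord

open CategoryTheory CategoryTheory.Limits AlgebraicGeometry HomogeneousLocalization MvPolynomial CohB1

section General

variable {R A : Type u} [CommRing R] [CommRing A] [Algebra R A] {𝒜 : ℕ → Submodule R A}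
  [GradedAlgebra 𝒜] {W : Type u} [CommRing W]

/-- Evaluation of `A_(x)` from a ring hom inverting `x`. -/
noncomputable def awayEval (θ : A →+* W) {x : A} (hx : IsUnit (θ x)) : Away 𝒜 x →+* W :=
  (IsLocalization.Away.lift (S := Localization.Away x) x hx).comp
    (algebraMap (Away 𝒜 x) (Localization.Away x))

lemma awayEval_val (θ : A →+* W) {x : A} (hx : IsUnit (θ x)) (a : Away 𝒜 x) (n : ℕ) (b : A)
    (h : a.val * algebraMap A (Localization.Away x) (x ^ n) = algebraMap A _ b) :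
    awayEval θ hx a * θ x ^ n = θ b := by
  have := congrArg (IsLocalization.Away.lift (S := Localization.Away x) x hx) h
  simpa [awayEval, IsLocalization.Away.lift_eq] using this

lemma awayEval_mk (θ : A →+* W) {x : A} (hx : IsUnit (θ x)) {d : ℕ} (hd : x ∈ 𝒜 d) (n : ℕ) (a : A)
    (ha : a ∈ 𝒜 (n • d)) : awayEval θ hx (Away.mk 𝒜 hd n a ha) * θ x ^ n = θ a := by
  apply awayEval_val
  rw [Away.val_mk, Localization.mk_eq_mk', IsLocalization.mk'_spec]

lemma awayEval_comp {W' : Type u} [CommRing W'] (g : W →+* W') (θ : A →+* W) {x : A}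
    (hx : IsUnit (θ x)) :
    g.comp (awayEval (𝒜 := 𝒜) θ hx) = awayEval (g.comp θ) (hx.map g) := by
  rw [awayEval, awayEval, ← RingHom.comp_assoc]
  congr 1
  apply IsLocalization.ringHom_ext (Submonoid.powers x)
  ext a
  simp [IsLocalization.Away.lift_eq]

/-- Scaling the coordinates does not change the evaluation. -/
lemma awayEval_scale (θ θ' : A →+* W) {x : A} (hx : IsUnit (θ x)) (hx' : IsUnit (θ' x)) {d : ℕ}
    (hd : x ∈ 𝒜 d) (c : W) (h : ∀ (n : ℕ) (a : A), a ∈ 𝒜 n → θ' a = c ^ n * θ a) :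
    awayEval (𝒜 := 𝒜) θ hx = awayEval θ' hx' := by
  ext z
  obtain ⟨n, a, ha, rfl⟩ := Away.mk_surjective 𝒜 hd z
  apply (hx'.pow n).mul_left_injective
  show awayEval θ hx _ * θ' x ^ n = awayEval θ' hx' _ * θ' x ^ n
  rw [awayEval_mk θ' hx' hd n a ha, h _ _ ha, h _ _ hd, mul_pow, ← pow_mul, mul_left_comm,
    awayEval_mk θ hx hd n a ha, smul_eq_mul, mul_comm d n]

lemma awayEval_awayMap (θ : A →+* W) {f g : A} {e : ℕ} (hg : g ∈ 𝒜 e) {x : A} (hxe : x = f * g)
    (hx : IsUnit (θ x)) :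
    (awayEval (𝒜 := 𝒜) θ hx).comp (awayMap 𝒜 hg hxe) =
      awayEval θ (isUnit_of_mul_isUnit_left (by rwa [hxe, map_mul] at hx)) := by
  ext z
  simp only [RingHom.comp_apply, awayEval, HomogeneousLocalization.algebraMap_apply]
  rw [val_awayMap]
  have : (IsLocalization.Away.lift (S := Localization.Away x) x hx).comp
      (Localization.awayLift (algebraMap A (Localization.Away x)) f
        (isUnit_of_mul_isUnit_left (y := algebraMap A (Localization.Away x) g)
          (by rw [← map_mul, ← hxe]; exact IsLocalization.Away.algebraMap_isUnit x))) =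
      IsLocalization.Away.lift f (isUnit_of_mul_isUnit_left (by rwa [hxe, map_mul] at hx)) := by
    apply IsLocalization.ringHom_ext (Submonoid.powers f)
    ext a
    simp [IsLocalization.Away.lift_eq, Localization.awayLift]
  exact RingHom.congr_fun this z.val

end General

section Space

variable {R : Type u} [CommRing R] {n : ℕ}

local notation "P𝒜" => polyGrading n R

lemma X_mem (i : Fin (n + 1)) : (X i : MvPolynomial (Fin (n + 1)) R) ∈ polyGrading n R 1 :=
  isHomogeneous_X R i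

/-- The structure morphism of projective space. -/
noncomputable abbrev baseMap (n : ℕ) (R : Type u) [CommRing R] :
    Proj (polyGrading n R) ⟶ Spec (CommRingCat.of R) :=
  Proj.toSpecZero (polyGrading n R) ≫
    Spec.map (CommRingCat.ofHom (algebraMap R (polyGrading n R 0)))

/-- The point with coordinates `v`, whose `i`-th coordinate is invertible. -/
noncomputable def pt {T : Scheme.{u}} (ρ : R →+* Γ(T, ⊤)) (v : Fin (n + 1) → Γ(T, ⊤))
    (i : Fin (n + 1)) (hi : IsUnit (v i)) : T ⟶ Proj (polyGrading n R) :=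
  T.toSpecΓ ≫ Spec.map (CommRingCat.ofHom (awayEval (𝒜 := P𝒜) (x := X i) (eval₂Hom ρ v)
    (by rwa [eval₂Hom_X']))) ≫ Proj.awayι P𝒜 (X i) (X_mem i) one_pos

lemma eval₂Hom_smul {W : Type u} [CommRing W] (ρ : R →+* W) (v : Fin (n + 1) → W) (c : W) (k : ℕ)
    (a : MvPolynomial (Fin (n + 1)) R) (ha : a.IsHomogeneous k) :
    eval₂Hom ρ (fun j => c * v j) a = c ^ k * eval₂Hom ρ v a := by
  classical
  rw [as_sum a, map_sum, map_sum, Finset.mul_sum]
  refine Finset.sum_congr rfl fun m hm => ?_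
  have hdeg : m.sum (fun _ e => e) = k := by
    have := ha (mem_support_iff.mp hm)
    rwa [Finsupp.weight_apply, show (m.sum fun i c => c • (1 : Fin (n+1) → ℕ) i) = m.sum fun _ e => e from
      Finsupp.sum_congr fun _ _ => by simp] at this
  rw [eval₂Hom_monomial, eval₂Hom_monomial, ← hdeg]
  simp only [Finsupp.prod, Finsupp.sum, mul_pow, Finset.prod_mul_distrib, Finset.prod_pow_eq_pow_sum]
  ring

lemma ρ_eq {T : Scheme.{u}} {R' : Type u} [CommRing R'] (a b : R' →+* Γ(T, ⊤))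
    (h : T.toSpecΓ ≫ Spec.map (CommRingCat.ofHom a) = T.toSpecΓ ≫ Spec.map (CommRingCat.ofHom b)) :
    a = b := by
  have := congrArg (fun f => (Scheme.ΓSpecIso (.of R')).inv ≫ f.appTop) h
  simp at this
  exact congrArg CommRingCat.Hom.hom this

lemma pt_comp {T T' : Scheme.{u}} (g : T' ⟶ T) (ρ : R →+* Γ(T, ⊤)) (v : Fin (n + 1) → Γ(T, ⊤))
    (i : Fin (n + 1)) (hi : IsUnit (v i)) :
    g ≫ pt ρ v i hi = pt (g.appTop.hom.comp ρ) (fun k => g.appTop.hom (v k)) i (hi.map _) := by
  simp only [pt]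
  rw [Scheme.toSpecΓ_naturality_assoc, ← Spec.map_comp_assoc]
  congr 3
  apply CommRingCat.hom_ext
  simp only [CommRingCat.hom_comp, CommRingCat.hom_ofHom, awayEval_comp]
  congr 1
  apply MvPolynomial.ringHom_ext <;> intro x <;> simp

lemma pt_scale {T : Scheme.{u}} (ρ : R →+* Γ(T, ⊤)) (v : Fin (n + 1) → Γ(T, ⊤))
    (i : Fin (n + 1)) (c : Γ(T, ⊤)) (hi : IsUnit (v i)) (hi' : IsUnit (c * v i)) :
    pt ρ v i hi = pt ρ (fun k => c * v k) i hi' := by
  simp only [pt]
  congr 4
  exact awayEval_scale _ _ _ _ (X_mem i) c fun k a ha => eval₂Hom_smul ρ v c k a ha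

lemma pt_index {T : Scheme.{u}} (ρ : R →+* Γ(T, ⊤)) (v : Fin (n + 1) → Γ(T, ⊤))
    (i j : Fin (n + 1)) (hi : IsUnit (v i)) (hj : IsUnit (v j)) :
    pt ρ v i hi = pt ρ v j hj := by
  have key : ∀ (i j : Fin (n + 1)) (hi : IsUnit (v i)) (hx : IsUnit (v i * v j)),
      pt ρ v i hi = T.toSpecΓ ≫ Spec.map (CommRingCat.ofHom (awayEval (𝒜 := P𝒜) (x := X i * X j)
        (eval₂Hom ρ v) (by rwa [map_mul, eval₂Hom_X', eval₂Hom_X']))) ≫
          Proj.awayι P𝒜 (X i * X j) (SetLike.mul_mem_graded (X_mem i) (X_mem j)) Nat.two_pos := by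
    intro i j hi hx
    simp only [pt]
    congr 1
    rw [← Proj.SpecMap_awayMap_awayι P𝒜 (X_mem i) one_pos (X_mem j) rfl, ← Spec.map_comp_assoc]
    congr 2
    rw [← CommRingCat.ofHom_comp, awayEval_awayMap]
  rw [key i j hi (hi.mul hj), key j i hj (hj.mul hi)]
  congr 1
  have aux : ∀ (x y : MvPolynomial (Fin (n + 1)) R) (e : x = y) (hx : IsUnit (eval₂Hom ρ v x))
      (hy : IsUnit (eval₂Hom ρ v y)) (dx : x ∈ P𝒜 2) (dy : y ∈ P𝒜 2),
      Spec.map (CommRingCat.ofHom (awayEval (𝒜 := P𝒜) (eval₂Hom ρ v) hx)) ≫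
          Proj.awayι P𝒜 x dx Nat.two_pos =
        Spec.map (CommRingCat.ofHom (awayEval (𝒜 := P𝒜) (eval₂Hom ρ v) hy)) ≫
          Proj.awayι P𝒜 y dy Nat.two_pos := by
    intro x y e hx hy dx dy; subst e; rfl
  exact aux _ _ (mul_comm _ _) _ _ _ _

/-- Proportional coordinates give the same point. -/
lemma pt_eq {T : Scheme.{u}} (ρ : R →+* Γ(T, ⊤)) (v v' : Fin (n + 1) → Γ(T, ⊤))
    (i j : Fin (n + 1)) (hi : IsUnit (v i)) (hj : IsUnit (v' j))
    (h : ∀ k l, v k * v' l = v l * v' k) : pt ρ v i hi = pt ρ v' j hj := by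
  have hu : IsUnit (v' i * v j) := by rw [mul_comm, ← h i j]; exact hi.mul hj
  have hi' : IsUnit (v' i) := isUnit_of_mul_isUnit_left hu
  rw [← pt_index ρ v' i j hi' hj]
  obtain ⟨a, ha⟩ := hi
  have e : v' = fun k => (↑a⁻¹ * v' i) * v k := by
    funext k
    rw [mul_assoc, show v' i * v k = v' k * v i by rw [mul_comm, h k i, mul_comm], ← ha,
      mul_left_comm, Units.inv_mul, mul_one]
  rw [pt_scale ρ v i (↑a⁻¹ * v' i) (ha ▸ a.isUnit) (by rw [← congrFun e i]; exact hi')]
  congr 1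
  exact e.symm

lemma pt_toSpec {T : Scheme.{u}} (ρ : R →+* Γ(T, ⊤)) (v : Fin (n + 1) → Γ(T, ⊤))
    (i : Fin (n + 1)) (hi : IsUnit (v i)) :
    pt ρ v i hi ≫ baseMap n R = T.toSpecΓ ≫ Spec.map (CommRingCat.ofHom ρ) := by
  simp only [baseMap]
  simp only [pt, Category.assoc]
  rw [Proj.awayι_toSpecZero_assoc, ← Spec.map_comp, ← Spec.map_comp]
  congr 2
  rw [← CommRingCat.ofHom_comp, ← CommRingCat.ofHom_comp]
  congr 1
  ext r
  have := awayEval_val (𝒜 := P𝒜) (x := X i) (eval₂Hom ρ v) (by rwa [eval₂Hom_X'])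
    (fromZeroRingHom P𝒜 _ (algebraMap R (P𝒜 0) r)) 0 (C r) (by simp [fromZeroRingHom, ← Localization.mk_one_eq_algebraMap, Localization.mk_one]; rfl)
  simpa using this

lemma pt_preimage {T : Scheme.{u}} (ρ : R →+* Γ(T, ⊤)) (v : Fin (n + 1) → Γ(T, ⊤))
    (i : Fin (n + 1)) (hi : IsUnit (v i)) (j : Fin (n + 1)) :
    pt ρ v i hi ⁻¹ᵁ Proj.basicOpen P𝒜 (X j) = T.basicOpen (v j) := by
  simp only [pt, Scheme.Hom.comp_preimage]
  rw [Proj.awayι_preimage_basicOpen P𝒜 (X_mem i) one_pos (X_mem j) one_pos]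
  erw [Scheme.toSpecΓ_preimage_basicOpen]
  have h := awayEval_mk (𝒜 := P𝒜) (x := X i) (eval₂Hom ρ v) (by rwa [eval₂Hom_X']) (X_mem i) 1
    ((X j) ^ 1) (by rw [pow_one]; exact X_mem j)
  simp only [pow_one, eval₂Hom_X'] at h
  rw [← h, Scheme.basicOpen_mul, Scheme.basicOpen_of_isUnit _ hi, inf_top_eq]
  congr 1
  simp [Away.isLocalizationElem]

lemma isUnit_of_basicOpen_eq_top {T : Scheme.{u}} {f : Γ(T, ⊤)} (h : T.basicOpen f = ⊤) :
    IsUnit f := by
  refine T.toRingedSpace.isUnit_of_isUnit_germ ⊤ f fun x hx => ?_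
  exact (Scheme.mem_basicOpen_top T f x).mp (h.ge trivial)

/-- Coordinates of equal points are proportional. -/
lemma cross_of_pt_eq {T : Scheme.{u}} (ρ : R →+* Γ(T, ⊤)) (v v' : Fin (n + 1) → Γ(T, ⊤))
    (i j : Fin (n + 1)) (hi : IsUnit (v i)) (hj : IsUnit (v' j))
    (h : pt ρ v i hi = pt ρ v' j hj) (k l : Fin (n + 1)) : v k * v' l = v l * v' k := by
  have hj' : IsUnit (v j) := isUnit_of_basicOpen_eq_top <| by
    rw [← pt_preimage ρ v i hi j, h, pt_preimage, Scheme.basicOpen_of_isUnit _ hj]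
  rw [pt_index ρ v i j hi hj'] at h
  simp only [pt, ← Category.assoc] at h
  have hev := ρ_eq _ _ ((cancel_mono _).mp h)
  have key : ∀ k, ∃ q, q * v j = v k ∧ q * v' j = v' k := fun k => by
    refine ⟨awayEval (𝒜 := P𝒜) (x := X j) (eval₂Hom ρ v) (by rwa [eval₂Hom_X'])
      (Away.mk P𝒜 (X_mem j) 1 (X k) (X_mem k)), ?_, ?_⟩
    · simpa using awayEval_mk (𝒜 := P𝒜) (x := X j) (eval₂Hom ρ v) (by rwa [eval₂Hom_X']) (X_mem j) 1
        (X k) (X_mem k)
    · rw [hev]
      simpa using awayEval_mk (𝒜 := P𝒜) (x := X j) (eval₂Hom ρ v') (by rwa [eval₂Hom_X']) (X_mem j) 1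
        (X k) (X_mem k)
  obtain ⟨p, hp, hp'⟩ := key k
  obtain ⟨q, hq, hq'⟩ := key l
  rw [← hp, ← hp', ← hq, ← hq']
  ring

/-- The coordinate `X k / X i` on a standard chart. -/
noncomputable def ratio (i k : Fin (n + 1)) : Away P𝒜 (X i) := Away.mk P𝒜 (X_mem i) 1 (X k) (X_mem k)

/-- The constants on a standard chart. -/
noncomputable def const (i : Fin (n + 1)) : R →+* Away P𝒜 (X i) :=
  (fromZeroRingHom P𝒜 _).comp (algebraMap R (P𝒜 0))

lemma mk_eq_eval (i : Fin (n + 1)) (k : ℕ) (a : MvPolynomial (Fin (n + 1)) R) (ha : a ∈ P𝒜 (k • 1)) :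
    Away.mk P𝒜 (X_mem i) k a ha = eval₂Hom (const i) (ratio i) a := by
  apply HomogeneousLocalization.val_injective
  let x : MvPolynomial (Fin (n + 1)) R := X i
  let L := algebraMap (Away P𝒜 x) (Localization.Away x)
  let ι := algebraMap (MvPolynomial (Fin (n + 1)) R) (Localization.Away x)
  have h1 : L.comp (eval₂Hom (const i) (ratio i)) =
      eval₂Hom (ι.comp C) fun j => IsLocalization.Away.invSelf x * ι (X j) := by
    apply MvPolynomial.ringHom_ext
    · intro r
      simp [L, ι, x, const, fromZeroRingHom, ← Localization.mk_one_eq_algebraMap]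
      rfl
    · intro j
      simp [L, ι, x, ratio, IsLocalization.Away.invSelf, Localization.mk_eq_mk']
      rw [mul_comm, ← IsLocalization.mk'_eq_mul_mk'_one]
  have hk : a.IsHomogeneous k := by simpa using ha
  have h2 : eval₂Hom (ι.comp C) (fun j => ι (X j)) = ι := by
    apply MvPolynomial.ringHom_ext <;> intro r <;> simp
  show _ = L _
  rw [← RingHom.comp_apply L, h1, eval₂Hom_smul _ _ _ k a hk, h2, Away.val_mk, Localization.mk_eq_mk',
    IsLocalization.mk'_eq_iff_eq_mul]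
  show ι a = _ * ι (x ^ k)
  rw [map_pow, mul_right_comm, ← mul_pow, mul_comm (IsLocalization.Away.invSelf x),
    IsLocalization.Away.mul_invSelf, one_pow, one_mul]

/-- A homomorphism out of a standard chart is determined by constants and ratios. -/
lemma away_hom_ext {W : Type u} [CommRing W] {i : Fin (n + 1)} (f g : Away P𝒜 (X i) →+* W)
    (hc : f.comp (const i) = g.comp (const i)) (hr : ∀ k, f (ratio i k) = g (ratio i k)) : f = g := by
  have : f.comp (eval₂Hom (const i) (ratio i)) = g.comp (eval₂Hom (const i) (ratio i)) := by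
    apply MvPolynomial.ringHom_ext
    · intro r; simpa using RingHom.congr_fun hc r
    · intro k; simpa using hr k
  ext z
  obtain ⟨k, a, ha, rfl⟩ := Away.mk_surjective P𝒜 (X_mem i) z
  rw [mk_eq_eval]
  exact RingHom.congr_fun this a

lemma awayEval_const {W : Type u} [CommRing W] (ρ : R →+* W) (v : Fin (n + 1) → W) (i : Fin (n + 1))
    (hi : IsUnit (eval₂Hom ρ v (X i))) :
    (awayEval (𝒜 := P𝒜) (eval₂Hom ρ v) hi).comp (const i) = ρ := by
  ext r
  have := awayEval_val (𝒜 := P𝒜) (x := X i) (eval₂Hom ρ v) hi (const i r) 0 (C r)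
    (by simp [const, fromZeroRingHom, ← Localization.mk_one_eq_algebraMap, Localization.mk_one]; rfl)
  simpa using this

lemma awayEval_ratio {W : Type u} [CommRing W] (ρ : R →+* W) (v : Fin (n + 1) → W) (i k : Fin (n + 1))
    (hi : IsUnit (eval₂Hom ρ v (X i))) :
    awayEval (𝒜 := P𝒜) (eval₂Hom ρ v) hi (ratio i k) * v i = v k := by
  simpa [ratio] using awayEval_mk (𝒜 := P𝒜) (x := X i) (eval₂Hom ρ v) hi (X_mem i) 1 (X k) (X_mem k)

lemma ratio_self (i : Fin (n + 1)) : ratio (R := R) i i = 1 := by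
  apply HomogeneousLocalization.val_injective
  simp [ratio]

lemma irrelevant_le_span_X :
    (HomogeneousIdeal.irrelevant P𝒜).toIdeal ≤ Ideal.span (Set.range (X : Fin (n + 1) → _)) := by
  intro p hp
  rw [HomogeneousIdeal.mem_iff, HomogeneousIdeal.mem_irrelevant_iff, GradedRing.proj_apply] at hp
  have h0 : constantCoeff p = 0 := by
    have : (DirectSum.decompose P𝒜 p 0 : MvPolynomial (Fin (n+1)) R) = homogeneousComponent 0 p :=
      MvPolynomial.decomposition.decompose'_apply p 0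
    rw [this, homogeneousComponent_zero] at hp
    exact C_injective _ R (hp.trans C_0.symm)
  show p ∈ Ideal.span (Set.range (X : Fin (n + 1) → _))
  rw [← Set.image_univ, mem_ideal_span_X_image]
  intro m hm
  have hm0 : m ≠ 0 := fun e => mem_support_iff.mp hm (by rw [e]; exact h0)
  obtain ⟨i, hi⟩ := Finsupp.ne_iff.mp hm0
  exact ⟨i, trivial, hi⟩

/-- The standard charts of projective space. -/
noncomputable def cover (n : ℕ) (R : Type u) [CommRing R] : (Proj (polyGrading n R)).AffineOpenCover :=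
  Proj.affineOpenCoverOfIrrelevantLESpan (polyGrading n R) (fun i : ULift.{u} (Fin (n + 1)) => X i.down)
    (m := fun _ => 1) (fun i => X_mem i.down) (fun _ => one_pos)
    (irrelevant_le_span_X.trans (Ideal.span_mono (by rintro _ ⟨i, rfl⟩; exact ⟨⟨i⟩, rfl⟩)))

/-- A standard chart, as a point with coordinates. -/
lemma awayι_eq_pt (i : Fin (n + 1)) :
    Proj.awayι P𝒜 (X i) (X_mem i) one_pos =
      pt ((Scheme.ΓSpecIso (.of (Away P𝒜 (X i)))).inv.hom.comp (const i))
        (fun k => (Scheme.ΓSpecIso (.of (Away P𝒜 (X i)))).inv.hom (ratio i k)) i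
        (by rw [ratio_self]; simp) := by
  have e : ∀ h, awayEval (𝒜 := P𝒜) (x := X i)
      (eval₂Hom ((Scheme.ΓSpecIso (.of (Away P𝒜 (X i)))).inv.hom.comp (const i))
        (fun k => (Scheme.ΓSpecIso (.of (Away P𝒜 (X i)))).inv.hom (ratio i k))) h =
      (Scheme.ΓSpecIso (.of (Away P𝒜 (X i)))).inv.hom := fun h => by
    apply away_hom_ext
    · rw [awayEval_const]
    · intro k
      have := awayEval_ratio _ _ i k h
      simpa [ratio_self] using this
  simp only [pt, e, CommRingCat.ofHom_hom]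
  rw [Scheme.toSpecΓ]
  simp

end Space

end Groth.Agent.ProjCoord
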