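import Mathlib.Algebra.Polynomial.BigOperators
import Mathlib.FieldTheory.IsAlgClosed.Basic
import Mathlib.RingTheory.Ideal.Quotient.Basic

/-! Coefficients of a product of two polynomials given by finitely many coefficients. -/

universe u

set_option autoImplicit false

namespace Groth.Agent.ProjCoord

open Polynomial

variable {W : Type u} [CommRing W] {n m : ℕ}

/-- The coefficients of the product. -/
noncomputable def conv (x : Fin (n + 1) → W) (y : Fin (m + 1) → W) (t : Fin (n + m + 1)) : W :=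
  ∑ p ∈ Finset.univ.filter (fun p : Fin (n + 1) × Fin (m + 1) => (p.1 : ℕ) + p.2 = t), x p.1 * y p.2

/-- The polynomial with the given coefficients. -/
noncomputable def ofVec (x : Fin (n + 1) → W) : W[X] := ∑ a : Fin (n + 1), C (x a) * X ^ (a : ℕ)

lemma coeff_ofVec (x : Fin (n + 1) → W) (a : Fin (n + 1)) : (ofVec x).coeff a = x a := by
  rw [ofVec, finsetSum_coeff, Finset.sum_eq_single a]
  · simp
  · intro b _ hb
    rw [coeff_C_mul_X_pow, if_neg fun h => hb (Fin.ext h.symm)]
  · simp

lemma ofVec_mul (x : Fin (n + 1) → W) (y : Fin (m + 1) → W) :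
    ofVec x * ofVec y = ofVec (conv x y) := by
  simp only [ofVec, conv, map_sum, Finset.sum_mul]
  simp only [Finset.mul_sum, Finset.sum_mul]
  rw [← Finset.sum_product']
  simp only [Finset.univ_product_univ]
  rw [← Finset.sum_fiberwise Finset.univ
    (fun p : Fin (n + 1) × Fin (m + 1) => (⟨(p.1 : ℕ) + p.2, by omega⟩ : Fin (n + m + 1)))]
  refine Finset.sum_congr rfl fun t _ => Finset.sum_congr ?_ fun p hp => ?_
  · ext p; simp [Fin.ext_iff]
  · simp only [Finset.mem_filter, Finset.mem_univ, true_and] at hp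
    rw [← hp, map_mul, pow_add]
    ring

lemma map_conv {W' : Type u} [CommRing W'] (g : W →+* W') (x : Fin (n + 1) → W) (y : Fin (m + 1) → W)
    (t : Fin (n + m + 1)) : g (conv x y t) = conv (g ∘ x) (g ∘ y) t := by
  simp [conv]

lemma span_conv (x : Fin (n + 1) → W) (y : Fin (m + 1) → W) (i : Fin (n + 1)) (j : Fin (m + 1))
    (hi : IsUnit (x i)) (hj : IsUnit (y j)) : Ideal.span (Set.range (conv x y)) = ⊤ := by
  by_contra h
  obtain ⟨P, hP, hle⟩ := Ideal.exists_le_maximal _ h
  let π := Ideal.Quotient.mk P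
  have h0 : ofVec (π ∘ x) * ofVec (π ∘ y) = 0 := by
    rw [ofVec_mul, ofVec]
    refine Finset.sum_eq_zero fun t _ => ?_
    rw [← map_conv, Ideal.Quotient.eq_zero_iff_mem.mpr (hle (Ideal.subset_span ⟨t, rfl⟩)), map_zero,
      zero_mul]
  haveI := hP.isPrime
  rcases mul_eq_zero.mp h0 with h1 | h1
  · have := congrArg (fun p => p.coeff i) h1
    simp only [coeff_ofVec, coeff_zero, Function.comp_apply] at this
    exact (hi.map π).ne_zero this
  · have := congrArg (fun p => p.coeff j) h1
    simp only [coeff_ofVec, coeff_zero, Function.comp_apply] at this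
    exact (hj.map π).ne_zero this

lemma conv_cross (x x' : Fin (n + 1) → W) (y y' : Fin (m + 1) → W)
    (hx : ∀ k l, x k * x' l = x l * x' k) (hy : ∀ k l, y k * y' l = y l * y' k)
    (s t : Fin (n + m + 1)) : conv x y s * conv x' y' t = conv x y t * conv x' y' s := by
  simp only [conv, Finset.sum_mul_sum]
  rw [Finset.sum_comm]
  refine Finset.sum_congr rfl fun p _ => Finset.sum_congr rfl fun q _ => ?_
  rw [mul_mul_mul_comm, hx, hy, mul_mul_mul_comm]

/-- Over an algebraically closed field, a linear factor splits off. -/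
lemma exists_conv_eq {K : Type u} [Field K] [IsAlgClosed K] (ω : Fin (1 + m + 1) → K)
    (hω : ∃ s, ω s ≠ 0) :
    ∃ (x : Fin (1 + 1) → K) (y : Fin (m + 1) → K) (a : Fin (1 + 1)) (b : Fin (m + 1)),
      x a ≠ 0 ∧ y b ≠ 0 ∧ conv x y = ω := by
  have key : ∀ (x : Fin (1 + 1) → K) (q : K[X]), q.natDegree ≤ m → ofVec x * q = ofVec ω →
      ∃ (x : Fin (1 + 1) → K) (y : Fin (m + 1) → K) (a : Fin (1 + 1)) (b : Fin (m + 1)),
        x a ≠ 0 ∧ y b ≠ 0 ∧ conv x y = ω := by
    intro x q hq hxq
    let y : Fin (m + 1) → K := fun b => q.coeff b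
    have hy : ofVec y = q := by
      conv_rhs => rw [as_sum_range' q (m + 1) (Nat.lt_succ_of_le hq)]
      rw [ofVec, ← Fin.sum_univ_eq_sum_range (fun b => monomial b (q.coeff b))]
      simp only [y, C_mul_X_pow_eq_monomial]
    rw [← hy, ofVec_mul] at hxq
    have hc : conv x y = ω := funext fun t => by rw [← coeff_ofVec (conv x y) t, hxq, coeff_ofVec]
    obtain ⟨s, hs⟩ := hω
    rw [← hc, conv] at hs
    obtain ⟨p, -, hp⟩ := Finset.exists_ne_zero_of_sum_ne_zero hs
    exact ⟨x, y, p.1, p.2, left_ne_zero_of_mul hp, right_ne_zero_of_mul hp, hc⟩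
  have hdeg : (ofVec ω).natDegree ≤ m + 1 :=
    natDegree_sum_le_of_forall_le _ _ fun a _ => (natDegree_C_mul_X_pow_le _ _).trans (by omega)
  rcases Nat.lt_or_ge m (ofVec ω).natDegree with h | h
  · obtain ⟨r, hr⟩ := IsAlgClosed.exists_root (ofVec ω) (by
      intro h0
      rw [degree_eq_natDegree (fun e => by simp [e] at h)] at h0
      have : (ofVec ω).natDegree = 0 := by exact_mod_cast h0
      omega)
    obtain ⟨q, hq⟩ := dvd_iff_isRoot.mpr hr
    refine key ![-r, 1] q ?_ ?_
    · have hne : q ≠ 0 := fun e => by rw [e, mul_zero] at hq; simp [hq] at h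
      rw [hq, natDegree_mul (X_sub_C_ne_zero r) hne, natDegree_X_sub_C] at hdeg
      omega
    · rw [hq, show ofVec ![-r, 1] = X - C r by simp [ofVec, Fin.sum_univ_two]; ring]
  · exact key ![1, 0] (ofVec ω) h (by simp [ofVec, Fin.sum_univ_two])

end Groth.Agent.ProjCoord
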