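import Groth.Agent.ProjCoord.Segre
import Groth.Agent.ProjCoord.Extra
import Groth.Agent.ProjCoord.Conv
import Mathlib.AlgebraicGeometry.Morphisms.Affine
import Mathlib.AlgebraicGeometry.ResidueField
import Mathlib.FieldTheory.IsAlgClosed.AlgebraicClosure

/-! Multiplication of binary forms. -/

universe u

set_option autoImplicit false
set_option linter.style.haveILetI false

namespace Groth.Agent.ProjCoord

open CategoryTheory CategoryTheory.Limits AlgebraicGeometry HomogeneousLocalization MvPolynomial CohB1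

variable {n m : ℕ} {R : Type u} [CommRing R]

lemma pieceConv_span (i : Fin (n + 1)) (j : Fin (m + 1)) :
    Ideal.span (Set.range (conv (pieceU (R := R) i j) (pieceV (R := R) i j))) = ⊤ :=
  span_conv _ _ i j (by rw [pieceU_self]; exact isUnit_one) (by rw [pieceV_self]; exact isUnit_one)

lemma mult_compat {T : Scheme.{u}} {i i' : Fin (n + 1)} {j j' : Fin (m + 1)}
    (a : T ⟶ piece n m R i j) (b : T ⟶ piece n m R i' j')
    (h1 : a ≫ pullback.fst _ _ ≫ Proj.awayι (polyGrading n R) (X i) (X_mem i) one_pos =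
      b ≫ pullback.fst _ _ ≫ Proj.awayι (polyGrading n R) (X i') (X_mem i') one_pos)
    (h2 : a ≫ pullback.snd _ _ ≫ Proj.awayι (polyGrading m R) (X j) (X_mem j) one_pos =
      b ≫ pullback.snd _ _ ≫ Proj.awayι (polyGrading m R) (X j') (X_mem j') one_pos) :
    a ≫ ptSpan (pieceRho i j) (conv (pieceU i j) (pieceV i j)) (pieceConv_span i j) =
      b ≫ ptSpan (pieceRho i' j') (conv (pieceU i' j') (pieceV i' j')) (pieceConv_span i' j') := by
  have hρ := pieceRho_comp a b h1
  rw [fst_awayι, fst_awayι, pt_comp, pt_comp] at h1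
  rw [snd_awayι, snd_awayι, pt_comp, pt_comp] at h2
  simp only [← hρ] at h1 h2
  have cu := cross_of_pt_eq _ _ _ _ _ _ _ h1
  have cv := cross_of_pt_eq _ _ _ _ _ _ _ h2
  rw [ptSpan_comp, ptSpan_comp]
  simp only [← hρ]
  apply ptSpan_eq
  intro k l
  simp only [map_conv]
  exact conv_cross _ _ _ _ cu cv k l

variable (n m R) in
/-- Multiplication of binary forms. -/
noncomputable def mult : prodSpace n m R ⟶ Proj (polyGrading (n + m) R) :=
  (prodCover n m R).glueMorphisms
    (fun p => ptSpan (pieceRho p.1.down p.2.down) (conv (pieceU p.1.down p.2.down) (pieceV p.1.down p.2.down))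
      (pieceConv_span _ _))
    fun p q => by
      have hc : pullback.fst ((prodCover n m R).f p) ((prodCover n m R).f q) ≫ (prodCover n m R).f p =
          pullback.snd _ _ ≫ (prodCover n m R).f q := pullback.condition
      refine mult_compat _ _ ?_ ?_
      · have := congrArg (fun f => f ≫ pullback.fst (baseMap n R) (baseMap m R)) hc
        simp only [Category.assoc] at this
        simp only [prodCover_fst'] at this
        exact this
      · have := congrArg (fun f => f ≫ pullback.snd (baseMap n R) (baseMap m R)) hc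
        simp only [Category.assoc] at this
        simp only [prodCover_snd'] at this
        exact this

lemma piece_mult (i : Fin (n + 1)) (j : Fin (m + 1)) :
    (prodCover n m R).f (⟨i⟩, ⟨j⟩) ≫ mult n m R =
      ptSpan (pieceRho i j) (conv (pieceU i j) (pieceV i j)) (pieceConv_span i j) :=
  (prodCover n m R).ι_glueMorphisms _ _ _

lemma mult_toSpec : mult n m R ≫ baseMap (n + m) R = pullback.fst _ _ ≫ baseMap n R := by
  apply (prodCover n m R).hom_ext
  rintro ⟨⟨i⟩, ⟨j⟩⟩
  erw [← Category.assoc, piece_mult i j, ptSpan_toSpec]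
  refine (piece_base i j).symm.trans ?_
  refine (Category.assoc _ _ _).symm.trans ?_
  refine Eq.trans ?_ (Category.assoc _ _ _)
  exact congrArg (fun f => f ≫ baseMap n R) (prodCover_fst i j).symm

/-- The linear form giving the `t`-th coordinate. -/
noncomputable def convForm (t : Fin (n + m + 1)) : MvPolynomial (Fin (n * m + n + m + 1)) R :=
  ∑ p ∈ Finset.univ.filter (fun p : Fin (n + 1) × Fin (m + 1) => (p.1 : ℕ) + p.2 = t),
    X ((idx n m).symm p)

lemma mult_preimage (t : Fin (n + m + 1)) :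
    mult n m R ⁻¹ᵁ Proj.basicOpen (polyGrading (n + m) R) (X t) =
      segre n m R ⁻¹ᵁ Proj.basicOpen (polyGrading (n * m + n + m) R) (convForm t) := by
  ext x
  obtain ⟨⟨⟨i⟩, ⟨j⟩⟩, y, rfl⟩ : ∃ p y, (prodCover n m R).f p y = x :=
    ⟨_, (prodCover n m R).covers x⟩
  have g1 := ptSpan_preimage (pieceRho (R := R) i j) (conv (pieceU i j) (pieceV i j))
    (pieceConv_span i j) t
  have g3 := pt_preimage_form (pieceRho (R := R) i j) (pieceZ i j) ((idx n m).symm (i, j))
    (pieceZ_isUnit _ _) (convForm t) (sum_mem fun _ _ => X_mem _)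
  have e : eval₂Hom (pieceRho (R := R) i j) (pieceZ i j) (convForm t) =
      conv (pieceU i j) (pieceV i j) t := by
    simp only [convForm, map_sum, eval₂Hom_X', conv]
    exact Finset.sum_congr rfl fun p _ => pieceZ_symm i j p.1 p.2
  rw [e, ← g1, ← piece_segre, ← piece_mult] at g3
  exact (SetLike.ext_iff.mp g3 y).symm

lemma isAffineHom_mult : IsAffineHom (mult n m R) := by
  haveI : IsClosedImmersion (segre n m R) := isClosedImmersion_segre
  refine isAffineHom_of_forall_exists_isAffineOpen _ fun x => ?_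
  obtain ⟨⟨t⟩, y, hy⟩ : ∃ p y, (cover (n + m) R).openCover.f p y = x :=
    ⟨_, (cover (n + m) R).openCover.covers x⟩
  refine ⟨Proj.basicOpen (polyGrading (n + m) R) (X t), ?_,
    Proj.isAffineOpen_basicOpen _ _ (X_mem t) one_pos, ?_⟩
  · rw [← Proj.opensRange_awayι (polyGrading (n + m) R) (X t) (X_mem t) one_pos]
    exact ⟨y, hy⟩
  · rw [mult_preimage]
    exact (Proj.isAffineOpen_basicOpen _ _ (sum_mem fun _ _ => X_mem _) one_pos).preimage _

lemma isFinite_mult : IsFinite (mult n m R) := by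
  haveI : IsProper (mult n m R ≫ baseMap (n + m) R) := by
    rw [mult_toSpec]
    infer_instance
  exact IsFinite.iff_isProper_and_isAffineHom.mpr
    ⟨IsProper.of_comp (mult n m R) (baseMap (n + m) R), isAffineHom_mult⟩

/-- Lifting a product of two points. -/
lemma exists_lift_conv {T : Scheme.{u}} (ρ : R →+* Γ(T, ⊤)) (x : Fin (n + 1) → Γ(T, ⊤))
    (v : Fin (m + 1) → Γ(T, ⊤)) (a : Fin (n + 1)) (b : Fin (m + 1)) (hua : IsUnit (x a))
    (hub : IsUnit (v b)) :
    ∃ q : T ⟶ prodSpace n m R, q ≫ mult n m R = ptSpan ρ (conv x v) (span_conv x v a b hua hub) := by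
  let qa : T ⟶ Spec (CommRingCat.of (Away (polyGrading n R) (X a))) :=
    T.toSpecΓ ≫ Spec.map (CommRingCat.ofHom
      (awayEval (eval₂Hom ρ x) (by rw [eval₂Hom_X']; exact hua)))
  let qb : T ⟶ Spec (CommRingCat.of (Away (polyGrading m R) (X b))) :=
    T.toSpecΓ ≫ Spec.map (CommRingCat.ofHom
      (awayEval (eval₂Hom ρ v) (by rw [eval₂Hom_X']; exact hub)))
  have hqa : qa ≫ Proj.awayι (polyGrading n R) (X a) (X_mem a) one_pos = pt ρ x a hua :=
    Category.assoc _ _ _
  have hqb : qb ≫ Proj.awayι (polyGrading m R) (X b) (X_mem b) one_pos = pt ρ v b hub :=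
    Category.assoc _ _ _
  let q : T ⟶ piece n m R a b := pullback.lift qa qb
    (((Category.assoc _ _ _).symm.trans (congrArg (fun f => f ≫ baseMap n R) hqa)).trans
      ((pt_toSpec ρ x a hua).trans ((pt_toSpec ρ v b hub).symm.trans
        ((congrArg (fun f => f ≫ baseMap m R) hqb).symm.trans (Category.assoc _ _ _)))))
  have h1 : q ≫ pullback.fst _ _ ≫ Proj.awayι (polyGrading n R) (X a) (X_mem a) one_pos =
      pt ρ x a hua := by
    rw [← hqa, ← Category.assoc]; exact congrArg (fun f => f ≫ _) (pullback.lift_fst _ _ _)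
  have h2 : q ≫ pullback.snd _ _ ≫ Proj.awayι (polyGrading m R) (X b) (X_mem b) one_pos =
      pt ρ v b hub := by
    rw [← hqb, ← Category.assoc]; exact congrArg (fun f => f ≫ _) (pullback.lift_snd _ _ _)
  rw [fst_awayι, pt_comp] at h1
  rw [snd_awayι, pt_comp] at h2
  have hρ : q.appTop.hom.comp (pieceRho a b) = ρ := by
    apply ρ_eq
    exact ((pt_toSpec _ _ _ _).symm.trans (congrArg (fun f => f ≫ baseMap n R) h1)).trans
      (pt_toSpec _ _ _ _)
  simp only [hρ] at h1 h2
  have cu := cross_of_pt_eq _ _ _ _ _ _ _ h1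
  have cv := cross_of_pt_eq _ _ _ _ _ _ _ h2
  refine ⟨q ≫ (prodCover n m R).f (⟨a⟩, ⟨b⟩), (Category.assoc _ _ _).trans ?_⟩
  refine (congrArg (fun f => q ≫ f) (piece_mult a b)).trans ?_
  rw [ptSpan_comp]
  simp only [hρ]
  apply ptSpan_eq
  intro k l
  rw [map_conv, map_conv]
  exact conv_cross _ _ _ _ cu cv k l

/-- Coordinates of a field-valued point of a standard chart. -/
lemma exists_coords {N : ℕ} (t : Fin (N + 1)) (K : Type u) [Field K]
    (γ : Spec (CommRingCat.of K) ⟶ Spec (CommRingCat.of (Away (polyGrading N R) (X t)))) :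
    ∃ (ρ : R →+* Γ(Spec (CommRingCat.of K), ⊤)) (ω : Fin (N + 1) → K) (_ : ω t = 1)
      (h : IsUnit ((Scheme.ΓSpecIso (CommRingCat.of K)).inv.hom (ω t))),
      γ ≫ Proj.awayι (polyGrading N R) (X t) (X_mem t) one_pos =
        pt ρ (fun s => (Scheme.ΓSpecIso (CommRingCat.of K)).inv.hom (ω s)) t h := by
  let J := (Scheme.ΓSpecIso (CommRingCat.of (Away (polyGrading N R) (X t)))).inv.hom
  let ω : Fin (N + 1) → K := fun s =>
    (Scheme.ΓSpecIso (CommRingCat.of K)).hom.hom (γ.appTop.hom (J (ratio t s)))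
  have h1 : ω t = 1 := by simp only [ω, ratio_self, map_one]
  refine ⟨γ.appTop.hom.comp (J.comp (const t)), ω, h1, by rw [h1, map_one]; exact isUnit_one, ?_⟩
  refine (congrArg (fun f => γ ≫ f) (awayι_eq_pt (R := R) t)).trans ?_
  rw [pt_comp]
  have e : ∀ s, (Scheme.ΓSpecIso (CommRingCat.of K)).inv.hom (ω s) = γ.appTop.hom (J (ratio t s)) :=
    fun s => by
      show ((Scheme.ΓSpecIso (CommRingCat.of K)).hom ≫ (Scheme.ΓSpecIso (CommRingCat.of K)).inv).hom _ = _
      rw [Iso.hom_inv_id]; rfl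
  exact pt_eq _ _ _ _ _ _ _ fun k l => by rw [e, e]; exact mul_comm _ _

/-- A point over an algebraically closed field lifts. -/
lemma exists_lift_field {K : Type u} [Field K] [IsAlgClosed K] (t : Fin (1 + m + 1))
    (ρ : R →+* Γ(Spec (CommRingCat.of K), ⊤)) (ω : Fin (1 + m + 1) → K) (hω : ω t = 1)
    (h : IsUnit ((Scheme.ΓSpecIso (CommRingCat.of K)).inv.hom (ω t))) :
    ∃ q : Spec (CommRingCat.of K) ⟶ prodSpace 1 m R,
      q ≫ mult 1 m R = pt ρ (fun s => (Scheme.ΓSpecIso (CommRingCat.of K)).inv.hom (ω s)) t h := by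
  obtain ⟨x, v, a, b, ha, hb, hxv⟩ := exists_conv_eq ω ⟨t, by rw [hω]; exact one_ne_zero⟩
  let ι := (Scheme.ΓSpecIso (CommRingCat.of K)).inv.hom
  obtain ⟨q, hq⟩ := exists_lift_conv ρ (ι ∘ x) (ι ∘ v) a b (ha.isUnit.map ι) (hb.isUnit.map ι)
  refine ⟨q, ?_⟩
  rw [hq, pt_eq_ptSpan ρ _ t h (Ideal.eq_top_of_isUnit_mem _ (Ideal.subset_span ⟨t, rfl⟩) h)]
  apply ptSpan_eq
  intro k l
  have e : ∀ s, conv (ι ∘ x) (ι ∘ v) s = ι (ω s) := fun s => by
    rw [← hxv]; exact (map_conv ι x v s).symm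
  rw [e, e]
  exact mul_comm _ _

lemma exists_field_point {X₀ : Scheme.{u}} (z : X₀) :
    ∃ (K : Type u) (_ : Field K) (_ : IsAlgClosed K) (γ : Spec (CommRingCat.of K) ⟶ X₀)
      (k0 : Spec (CommRingCat.of K)), γ k0 = z := by
  let F : Type u := IsLocalRing.ResidueField (X₀.presheaf.stalk z)
  let K := AlgebraicClosure F
  obtain ⟨k0⟩ : Nonempty ↥(Spec (CommRingCat.of K)) := inferInstance
  let g : X₀.residueField z ⟶ CommRingCat.of K := CommRingCat.ofHom (algebraMap F K)
  refine ⟨K, inferInstance, inferInstance, Spec.map g ≫ X₀.fromSpecResidueField z, k0, ?_⟩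
  rw [Scheme.Hom.comp_apply]
  exact Scheme.fromSpecResidueField_apply _ _

/-- Every geometric point is a product. -/
lemma surjective_mult : Surjective (mult 1 m R) := by
  refine ⟨fun y => ?_⟩
  obtain ⟨⟨t⟩, z, hz⟩ : ∃ p z, (cover (1 + m) R).openCover.f p z = y :=
    ⟨_, (cover (1 + m) R).openCover.covers y⟩
  obtain ⟨K, _, _, γ, k0, hk0⟩ :=
    exists_field_point (X₀ := Spec (CommRingCat.of (Away (polyGrading (1 + m) R) (X t)))) z
  obtain ⟨ρ, ω, hω, h, hγ⟩ := exists_coords t K γ
  obtain ⟨q, hq⟩ := exists_lift_field t ρ ω hω h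
  refine ⟨q k0, ?_⟩
  have := congrArg (fun f : Spec (CommRingCat.of K) ⟶ _ => f k0) (hq.trans hγ.symm)
  simp only [Scheme.Hom.comp_apply] at this
  refine this.trans ?_
  rw [hk0]
  exact hz

theorem exists_mult (m : ℕ) :
    ∃ φ : pullback (ProjSpace.toSpec 1 R) (ProjSpace.toSpec m R) ⟶ ProjSpace (1 + m) R,
      (IsFinite φ ∧ Surjective φ) ∧ φ ≫ ProjSpace.toSpec _ R = pullback.fst _ _ ≫ ProjSpace.toSpec 1 R :=
  ⟨mult 1 m R, ⟨isFinite_mult, surjective_mult⟩, mult_toSpec⟩

end Groth.Agent.ProjCoord
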