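import Groth.Agent.ProjCoord.Basic
import Mathlib.AlgebraicGeometry.Morphisms.ClosedImmersion
import Mathlib.AlgebraicGeometry.Morphisms.Separated

/-! The Segre embedding. -/

universe u

set_option autoImplicit false
set_option linter.style.haveILetI false

namespace Groth.Agent.ProjCoord

open CategoryTheory CategoryTheory.Limits AlgebraicGeometry HomogeneousLocalization MvPolynomial CohB1

variable (n m : ℕ) (R : Type u) [CommRing R]

/-- The index bijection for products. -/
def idx : Fin (n * m + n + m + 1) ≃ Fin (n + 1) × Fin (m + 1) :=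
  (finCongr (by ring)).trans finProdFinEquiv.symm

/-- The product of two projective spaces. -/
noncomputable abbrev prodSpace : Scheme.{u} :=
  pullback (baseMap n R) (baseMap m R)

/-- A chart of the product. -/
noncomputable abbrev piece (i : Fin (n + 1)) (j : Fin (m + 1)) : Scheme.{u} :=
  pullback (Proj.awayι (polyGrading n R) (X i) (X_mem i) one_pos ≫ baseMap n R)
    (Proj.awayι (polyGrading m R) (X j) (X_mem j) one_pos ≫ baseMap m R)

variable {n m R}

/-- Constants on a chart of the product. -/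
noncomputable def pieceRho (i : Fin (n + 1)) (j : Fin (m + 1)) : R →+* Γ(piece n m R i j, ⊤) :=
  (pullback.fst _ _ : piece n m R i j ⟶ _).appTop.hom.comp
    ((Scheme.ΓSpecIso (.of (Away (polyGrading n R) (X i)))).inv.hom.comp (const i))

noncomputable def pieceU (i : Fin (n + 1)) (j : Fin (m + 1)) (k : Fin (n + 1)) :
    Γ(piece n m R i j, ⊤) :=
  (pullback.fst _ _ : piece n m R i j ⟶ _).appTop.hom
    ((Scheme.ΓSpecIso (.of (Away (polyGrading n R) (X i)))).inv.hom (ratio i k))

noncomputable def pieceV (i : Fin (n + 1)) (j : Fin (m + 1)) (k : Fin (m + 1)) :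
    Γ(piece n m R i j, ⊤) :=
  (pullback.snd _ _ : piece n m R i j ⟶ _).appTop.hom
    ((Scheme.ΓSpecIso (.of (Away (polyGrading m R) (X j)))).inv.hom (ratio j k))

lemma pieceU_self (i : Fin (n + 1)) (j : Fin (m + 1)) : pieceU (R := R) i j i = 1 := by
  simp only [pieceU, ratio_self, map_one]

lemma pieceV_self (i : Fin (n + 1)) (j : Fin (m + 1)) : pieceV (R := R) i j j = 1 := by
  simp only [pieceV, ratio_self, map_one]

/-- The base morphism of a chart of the product. -/
lemma piece_base (i : Fin (n + 1)) (j : Fin (m + 1)) :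
    (pullback.fst _ _ : piece n m R i j ⟶ _) ≫
      Proj.awayι (polyGrading n R) (X i) (X_mem i) one_pos ≫ baseMap n R =
    (piece n m R i j).toSpecΓ ≫ Spec.map (CommRingCat.ofHom (pieceRho i j)) := by
  have h := pt_comp (pullback.fst _ _ : piece n m R i j ⟶ _)
    ((Scheme.ΓSpecIso (.of (Away (polyGrading n R) (X i)))).inv.hom.comp (const i))
    (fun k => (Scheme.ΓSpecIso (.of (Away (polyGrading n R) (X i)))).inv.hom (ratio i k)) i
    (by rw [ratio_self]; simp)
  refine (Category.assoc _ _ _).symm.trans ?_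
  exact (congrArg (fun f => f ≫ baseMap n R)
    ((congrArg (fun f => (pullback.fst _ _ : piece n m R i j ⟶ _) ≫ f) (awayι_eq_pt (R := R) i)).trans h)).trans
    (pt_toSpec _ _ _ _)

lemma fst_awayι (i : Fin (n + 1)) (j : Fin (m + 1)) :
    (pullback.fst _ _ : piece n m R i j ⟶ _) ≫ Proj.awayι (polyGrading n R) (X i) (X_mem i) one_pos =
      pt (pieceRho i j) (pieceU i j) i (by rw [pieceU_self]; exact isUnit_one) := by
  refine (congrArg (fun f => (pullback.fst _ _ : piece n m R i j ⟶ _) ≫ f)
    (awayι_eq_pt (R := R) i)).trans ?_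
  rw [pt_comp]
  rfl

lemma snd_awayι (i : Fin (n + 1)) (j : Fin (m + 1)) :
    (pullback.snd _ _ : piece n m R i j ⟶ _) ≫ Proj.awayι (polyGrading m R) (X j) (X_mem j) one_pos =
      pt (pieceRho i j) (pieceV i j) j (by rw [pieceV_self]; exact isUnit_one) := by
  refine (congrArg (fun f => (pullback.snd _ _ : piece n m R i j ⟶ _) ≫ f)
    (awayι_eq_pt (R := R) j)).trans ?_
  rw [pt_comp]
  have hr : (pullback.snd _ _ : piece n m R i j ⟶ _).appTop.hom.comp
      ((Scheme.ΓSpecIso (.of (Away (polyGrading m R) (X j)))).inv.hom.comp (const j)) = pieceRho i j := by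
    apply ρ_eq
    refine Eq.trans ?_ (piece_base (R := R) i j)
    refine Eq.trans ?_ pullback.condition.symm
    have h := pt_comp (pullback.snd _ _ : piece n m R i j ⟶ _)
      ((Scheme.ΓSpecIso (.of (Away (polyGrading m R) (X j)))).inv.hom.comp (const j))
      (fun k => (Scheme.ΓSpecIso (.of (Away (polyGrading m R) (X j)))).inv.hom (ratio j k)) j
      (by rw [ratio_self]; simp)
    exact ((Category.assoc _ _ _).symm.trans ((congrArg (fun f => f ≫ baseMap m R)
      ((congrArg (fun f => (pullback.snd _ _ : piece n m R i j ⟶ _) ≫ f) (awayι_eq_pt (R := R) j)).trans h)).trans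
      (pt_toSpec _ _ _ _))).symm
  simp only [hr]
  rfl

/-- The Segre coordinates on a chart. -/
noncomputable def pieceZ (i : Fin (n + 1)) (j : Fin (m + 1)) (t : Fin (n * m + n + m + 1)) :
    Γ(piece n m R i j, ⊤) :=
  pieceU i j (idx n m t).1 * pieceV i j (idx n m t).2

lemma pieceZ_symm (i : Fin (n + 1)) (j : Fin (m + 1)) (k : Fin (n + 1)) (l : Fin (m + 1)) :
    pieceZ (R := R) i j ((idx n m).symm (k, l)) = pieceU i j k * pieceV i j l := by
  simp [pieceZ]

lemma pieceZ_isUnit (i : Fin (n + 1)) (j : Fin (m + 1)) :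
    IsUnit (pieceZ (R := R) i j ((idx n m).symm (i, j))) := by
  rw [pieceZ_symm, pieceU_self, pieceV_self, one_mul]; exact isUnit_one

variable (R) in
/-- The inclusion of a chart of the product. -/
noncomputable abbrev pieceIncl (i : Fin (n + 1)) (j : Fin (m + 1)) : piece n m R i j ⟶ prodSpace n m R :=
  pullback.map _ _ _ _ (Proj.awayι (polyGrading n R) (X i) (X_mem i) one_pos)
    (Proj.awayι (polyGrading m R) (X j) (X_mem j) one_pos) (𝟙 _) (Category.comp_id _) (Category.comp_id _)

variable (n m R) in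
/-- The charts of the product. -/
noncomputable def prodCover : (prodSpace n m R).OpenCover :=
  Scheme.Cover.mkOfCovers (ULift.{u} (Fin (n + 1)) × ULift.{u} (Fin (m + 1)))
    (fun p => piece n m R p.1.down p.2.down) (fun p => pieceIncl R p.1.down p.2.down)
    (fun x => ⟨_, (Scheme.Pullback.openCoverOfLeftRight (cover n R).openCover (cover m R).openCover
      (baseMap n R) (baseMap m R)).covers x⟩)

lemma pieceRho_comp {T : Scheme.{u}} {i i' : Fin (n + 1)} {j j' : Fin (m + 1)}
    (a : T ⟶ piece n m R i j) (b : T ⟶ piece n m R i' j')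
    (h : a ≫ pullback.fst _ _ ≫ Proj.awayι (polyGrading n R) (X i) (X_mem i) one_pos =
      b ≫ pullback.fst _ _ ≫ Proj.awayι (polyGrading n R) (X i') (X_mem i') one_pos) :
    a.appTop.hom.comp (pieceRho i j) = b.appTop.hom.comp (pieceRho i' j') := by
  apply ρ_eq
  have := congrArg (fun f => f ≫ baseMap n R) h
  simp only [Category.assoc, piece_base] at this
  simp only [CommRingCat.ofHom_comp, Spec.map_comp, CommRingCat.ofHom_hom]
  rwa [← Scheme.toSpecΓ_naturality_assoc, ← Scheme.toSpecΓ_naturality_assoc]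

lemma prodCover_fst (i : Fin (n + 1)) (j : Fin (m + 1)) :
    (prodCover n m R).f (⟨i⟩, ⟨j⟩) ≫ pullback.fst (baseMap n R) (baseMap m R) =
      (pullback.fst _ _ : piece n m R i j ⟶ _) ≫ Proj.awayι (polyGrading n R) (X i) (X_mem i) one_pos :=
  pullback.lift_fst _ _ _

lemma prodCover_snd (i : Fin (n + 1)) (j : Fin (m + 1)) :
    (prodCover n m R).f (⟨i⟩, ⟨j⟩) ≫ pullback.snd (baseMap n R) (baseMap m R) =
      (pullback.snd _ _ : piece n m R i j ⟶ _) ≫ Proj.awayι (polyGrading m R) (X j) (X_mem j) one_pos :=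
  pullback.lift_snd _ _ _

lemma prodCover_fst' (p : (prodCover n m R).I₀) :
    (prodCover n m R).f p ≫ pullback.fst (baseMap n R) (baseMap m R) =
      (pullback.fst _ _ : piece n m R p.1.down p.2.down ⟶ _) ≫
        Proj.awayι (polyGrading n R) (X p.1.down) (X_mem _) one_pos :=
  pullback.lift_fst _ _ _

lemma prodCover_snd' (p : (prodCover n m R).I₀) :
    (prodCover n m R).f p ≫ pullback.snd (baseMap n R) (baseMap m R) =
      (pullback.snd _ _ : piece n m R p.1.down p.2.down ⟶ _) ≫
        Proj.awayι (polyGrading m R) (X p.2.down) (X_mem _) one_pos :=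
  pullback.lift_snd _ _ _

lemma piece_compat {T : Scheme.{u}} {i i' : Fin (n + 1)} {j j' : Fin (m + 1)}
    (a : T ⟶ piece n m R i j) (b : T ⟶ piece n m R i' j')
    (h1 : a ≫ pullback.fst _ _ ≫ Proj.awayι (polyGrading n R) (X i) (X_mem i) one_pos =
      b ≫ pullback.fst _ _ ≫ Proj.awayι (polyGrading n R) (X i') (X_mem i') one_pos)
    (h2 : a ≫ pullback.snd _ _ ≫ Proj.awayι (polyGrading m R) (X j) (X_mem j) one_pos =
      b ≫ pullback.snd _ _ ≫ Proj.awayι (polyGrading m R) (X j') (X_mem j') one_pos) :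
    a ≫ pt (pieceRho i j) (pieceZ i j) ((idx n m).symm (i, j)) (pieceZ_isUnit _ _) =
      b ≫ pt (pieceRho i' j') (pieceZ i' j') ((idx n m).symm (i', j')) (pieceZ_isUnit _ _) := by
  have hρ := pieceRho_comp a b h1
  rw [fst_awayι, fst_awayι, pt_comp, pt_comp] at h1
  rw [snd_awayι, snd_awayι, pt_comp, pt_comp] at h2
  simp only [← hρ] at h1 h2
  have cu := cross_of_pt_eq _ _ _ _ _ _ _ h1
  have cv := cross_of_pt_eq _ _ _ _ _ _ _ h2
  rw [pt_comp, pt_comp]
  simp only [← hρ]
  apply pt_eq
  intro k l
  simp only [pieceZ, map_mul]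
  rw [mul_mul_mul_comm, cu, cv, mul_mul_mul_comm]

variable (n m R) in
/-- The Segre morphism over a ring. -/
noncomputable def segre : prodSpace n m R ⟶ Proj (polyGrading (n * m + n + m) R) :=
  (prodCover n m R).glueMorphisms
    (fun p => pt (pieceRho p.1.down p.2.down) (pieceZ p.1.down p.2.down)
      ((idx n m).symm (p.1.down, p.2.down)) (pieceZ_isUnit _ _))
    fun p q => by
      have hc : pullback.fst ((prodCover n m R).f p) ((prodCover n m R).f q) ≫ (prodCover n m R).f p =
          pullback.snd _ _ ≫ (prodCover n m R).f q := pullback.condition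
      refine piece_compat _ _ ?_ ?_
      · have := congrArg (fun f => f ≫ pullback.fst (baseMap n R) (baseMap m R)) hc
        simp only [Category.assoc] at this
        simp only [prodCover_fst'] at this
        exact this
      · have := congrArg (fun f => f ≫ pullback.snd (baseMap n R) (baseMap m R)) hc
        simp only [Category.assoc] at this
        simp only [prodCover_snd'] at this
        exact this

lemma piece_segre (i : Fin (n + 1)) (j : Fin (m + 1)) :
    (prodCover n m R).f (⟨i⟩, ⟨j⟩) ≫ segre n m R =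
      pt (pieceRho i j) (pieceZ i j) ((idx n m).symm (i, j)) (pieceZ_isUnit _ _) :=
  (prodCover n m R).ι_glueMorphisms _ _ _

lemma segre_toSpec :
    segre n m R ≫ baseMap (n * m + n + m) R =
      pullback.fst _ _ ≫ baseMap n R := by
  apply (prodCover n m R).hom_ext
  rintro ⟨⟨i⟩, ⟨j⟩⟩
  erw [← Category.assoc, piece_segre i j, pt_toSpec]
  refine (piece_base i j).symm.trans ?_
  refine (Category.assoc _ _ _).symm.trans ?_
  refine Eq.trans ?_ (Category.assoc _ _ _)
  exact congrArg (fun f => f ≫ baseMap n R) (prodCover_fst i j).symm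

instance isSeparated_toSpec (n : ℕ) : IsSeparated (baseMap n R) := by
  infer_instance

lemma segre_preimage (k : Fin (n + 1)) (l : Fin (m + 1)) :
    segre n m R ⁻¹ᵁ Proj.basicOpen (polyGrading (n * m + n + m) R) (X ((idx n m).symm (k, l))) =
      pullback.fst (baseMap n R) (baseMap m R) ⁻¹ᵁ
          Proj.basicOpen (polyGrading n R) (X k) ⊓
        pullback.snd (baseMap n R) (baseMap m R) ⁻¹ᵁ
          Proj.basicOpen (polyGrading m R) (X l) := by
  ext x
  obtain ⟨⟨⟨i⟩, ⟨j⟩⟩, y, rfl⟩ : ∃ p y, (prodCover n m R).f p y = x :=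
    ⟨_, (prodCover n m R).covers x⟩
  have h1 : ((prodCover n m R).f (⟨i⟩, ⟨j⟩) ≫ pullback.fst _ _ : _ ⟶ Proj (polyGrading n R)) =
      pt (pieceRho i j) (pieceU i j) i (by rw [pieceU_self]; exact isUnit_one) := by
    exact (prodCover_fst i j).trans (fst_awayι i j)
  have h2 : ((prodCover n m R).f (⟨i⟩, ⟨j⟩) ≫ pullback.snd _ _ : _ ⟶ Proj (polyGrading m R)) =
      pt (pieceRho i j) (pieceV i j) j (by rw [pieceV_self]; exact isUnit_one) := by
    exact (prodCover_snd i j).trans (snd_awayι i j)
  have e : ∀ {Y : Scheme.{u}} (g : prodSpace n m R ⟶ Y) (U : Y.Opens),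
      (prodCover n m R).f (⟨i⟩, ⟨j⟩) y ∈ g ⁻¹ᵁ U ↔
        y ∈ ((prodCover n m R).f (⟨i⟩, ⟨j⟩) ≫ g) ⁻¹ᵁ U := fun g U => Iff.rfl
  have g1 := pt_preimage (pieceRho (R := R) i j) (pieceU i j) i
    (by rw [pieceU_self]; exact isUnit_one) k
  have g2 := pt_preimage (pieceRho (R := R) i j) (pieceV i j) j
    (by rw [pieceV_self]; exact isUnit_one) l
  have g3 := pt_preimage (pieceRho (R := R) i j) (pieceZ i j) ((idx n m).symm (i, j))
    (pieceZ_isUnit _ _) ((idx n m).symm (k, l))
  rw [← h1] at g1
  rw [← h2] at g2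
  rw [← piece_segre, pieceZ_symm, Scheme.basicOpen_mul, ← g1, ← g2] at g3
  exact (e _ _).trans (SetLike.ext_iff.mp g3 y)

lemma segre_restrict_isPullback (i : Fin (n + 1)) (j : Fin (m + 1)) :
    IsPullback ((prodCover n m R).f (⟨i⟩, ⟨j⟩))
      ((piece n m R i j).toSpecΓ ≫ Spec.map (CommRingCat.ofHom (awayEval
        (𝒜 := polyGrading (n * m + n + m) R) (x := X ((idx n m).symm (i, j)))
        (eval₂Hom (pieceRho i j) (pieceZ i j)) (by rw [eval₂Hom_X']; exact pieceZ_isUnit _ _))))
      (segre n m R)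
      (Proj.awayι (polyGrading (n * m + n + m) R) (X ((idx n m).symm (i, j))) (X_mem _) one_pos) := by
  refine (IsOpenImmersion.isPullback _ _ _ _ ?_ ?_).flip
  · simp only [pt, Category.assoc, piece_segre]
    rfl
  · rw [Proj.opensRange_awayι, segre_preimage, ← SetLike.coe_set_eq]
    simp only [prodCover, Scheme.Cover.mkOfCovers, Scheme.Hom.coe_opensRange]
    rw [Scheme.Pullback.range_map]
    simp only [TopologicalSpace.Opens.coe_inf]
    congr 1
    · rw [← Proj.opensRange_awayι (polyGrading n R) (X i) (X_mem i) one_pos]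
      rfl
    · rw [← Proj.opensRange_awayι (polyGrading m R) (X j) (X_mem j) one_pos]
      rfl

/-- On each chart the Segre morphism has a retraction. -/
lemma isClosedImmersion_chart (i : Fin (n + 1)) (j : Fin (m + 1)) :
    IsClosedImmersion ((piece n m R i j).toSpecΓ ≫ Spec.map (CommRingCat.ofHom (awayEval
        (𝒜 := polyGrading (n * m + n + m) R) (x := X ((idx n m).symm (i, j)))
        (eval₂Hom (pieceRho i j) (pieceZ i j)) (by rw [eval₂Hom_X']; exact pieceZ_isUnit _ _)))) := by
  set t₀ := (idx n m).symm (i, j) with ht₀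
  let h : Away (polyGrading (n * m + n + m) R) (X t₀) →+* Γ(piece n m R i j, ⊤) :=
    awayEval (eval₂Hom (pieceRho i j) (pieceZ i j)) (by rw [eval₂Hom_X']; exact pieceZ_isUnit _ _)
  have hh : ∀ t, h (ratio t₀ t) = pieceZ i j t := fun t => by
    have := awayEval_ratio (pieceRho (R := R) i j) (pieceZ (R := R) i j) t₀ t
      (by rw [eval₂Hom_X']; exact pieceZ_isUnit _ _)
    simp only [t₀, pieceZ_symm, pieceU_self, pieceV_self, one_mul, mul_one] at this
    exact this
  let g1 : Away (polyGrading n R) (X i) →+* Away (polyGrading (n * m + n + m) R) (X t₀) :=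
    awayEval (eval₂Hom (const t₀) fun k => ratio t₀ ((idx n m).symm (k, j)))
      (by rw [eval₂Hom_X', ← ht₀, ratio_self]; exact isUnit_one)
  let g2 : Away (polyGrading m R) (X j) →+* Away (polyGrading (n * m + n + m) R) (X t₀) :=
    awayEval (eval₂Hom (const t₀) fun l => ratio t₀ ((idx n m).symm (i, l)))
      (by rw [eval₂Hom_X', ← ht₀, ratio_self]; exact isUnit_one)
  have hg : ∀ {N : ℕ} (a : Fin (N + 1)),
      Spec.map (CommRingCat.ofHom (const (R := R) a)) =
        Proj.awayι (polyGrading N R) (X a) (X_mem a) one_pos ≫ baseMap N R := by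
    intro N a
    show _ = Proj.awayι _ (X a) _ _ ≫ Proj.toSpecZero _ ≫ Spec.map _
    rw [Proj.awayι_toSpecZero_assoc, ← Spec.map_comp]
    rfl
  have hg1 : g1.comp (const i) = const t₀ := awayEval_const _ _ _ _
  have hg2 : g2.comp (const j) = const t₀ := awayEval_const _ _ _ _
  let ret : Spec (.of (Away (polyGrading (n * m + n + m) R) (X t₀))) ⟶ piece n m R i j :=
    pullback.lift (Spec.map (CommRingCat.ofHom g1)) (Spec.map (CommRingCat.ofHom g2)) (by
      rw [← hg i, ← hg j, ← Spec.map_comp, ← Spec.map_comp, ← CommRingCat.ofHom_comp,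
        ← CommRingCat.ofHom_comp, hg1, hg2])
  have e1 : h.comp g1 = (pullback.fst _ _ : piece n m R i j ⟶ _).appTop.hom.comp
      (Scheme.ΓSpecIso (.of (Away (polyGrading n R) (X i)))).inv.hom := by
    apply away_hom_ext
    · rw [RingHom.comp_assoc, hg1, awayEval_const]
      rfl
    · intro k
      have hk := awayEval_ratio (const (R := R) t₀) (fun k => ratio (R := R) t₀ ((idx n m).symm (k, j))) i k
        (by rw [eval₂Hom_X', ← ht₀, ratio_self]; exact isUnit_one)
      simp only [← ht₀, ratio_self, mul_one] at hk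
      rw [RingHom.comp_apply, hk, hh, pieceZ_symm, pieceV_self, mul_one]
      rfl
  have e2 : h.comp g2 = (pullback.snd _ _ : piece n m R i j ⟶ _).appTop.hom.comp
      (Scheme.ΓSpecIso (.of (Away (polyGrading m R) (X j)))).inv.hom := by
    apply away_hom_ext
    · rw [RingHom.comp_assoc, hg2, awayEval_const]
      apply ρ_eq
      simp only [CommRingCat.ofHom_comp, Spec.map_comp, CommRingCat.ofHom_hom]
      refine ((piece_base (R := R) i j).symm.trans (pullback.condition.trans
        (congrArg (fun f => (pullback.snd _ _ : piece n m R i j ⟶ _) ≫ f) (hg j)).symm)).trans ?_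
      simp only [← Scheme.toSpecΓ_naturality_assoc, Category.assoc]
      rw [Scheme.toSpecΓ]
      simp
    · intro k
      have hk := awayEval_ratio (const (R := R) t₀) (fun l => ratio (R := R) t₀ ((idx n m).symm (i, l))) j k
        (by rw [eval₂Hom_X', ← ht₀, ratio_self]; exact isUnit_one)
      simp only [← ht₀, ratio_self, mul_one] at hk
      rw [RingHom.comp_apply, hk, hh, pieceZ_symm, pieceU_self, one_mul]
      rfl
  haveI : IsAffine (piece n m R i j) := inferInstance
  have hret : ((piece n m R i j).toSpecΓ ≫ Spec.map (CommRingCat.ofHom h)) ≫ ret = 𝟙 _ := by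
    apply pullback.hom_ext
    · simp only [ret, Category.assoc, pullback.lift_fst, Category.id_comp]
      rw [← Spec.map_comp, ← CommRingCat.ofHom_comp, e1]
      simp only [CommRingCat.ofHom_comp, Spec.map_comp, CommRingCat.ofHom_hom]
      rw [← Scheme.toSpecΓ_naturality_assoc, Scheme.toSpecΓ]
      simp
    · simp only [ret, Category.assoc, pullback.lift_snd, Category.id_comp]
      rw [← Spec.map_comp, ← CommRingCat.ofHom_comp, e2]
      simp only [CommRingCat.ofHom_comp, Spec.map_comp, CommRingCat.ofHom_hom]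
      rw [← Scheme.toSpecΓ_naturality_assoc, Scheme.toSpecΓ]
      simp
  haveI : IsClosedImmersion (((piece n m R i j).toSpecΓ ≫ Spec.map (CommRingCat.ofHom h)) ≫ ret) := by
    rw [hret]; infer_instance
  exact IsClosedImmersion.of_comp _ ret

/-- The Segre morphism is a closed immersion. -/
theorem isClosedImmersion_segre : IsClosedImmersion (segre n m R) := by
  refine IsZariskiLocalAtTarget.of_openCover (P := @IsClosedImmersion)
    (cover (n * m + n + m) R).openCover ?_
  rintro ⟨t⟩
  obtain ⟨⟨i, j⟩, rfl⟩ := (idx n m).symm.surjective t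
  have hp := segre_restrict_isPullback (R := R) i j
  have := isClosedImmersion_chart (R := R) i j
  show IsClosedImmersion (pullback.snd (segre n m R)
    (Proj.awayι (polyGrading (n * m + n + m) R) (X ((idx n m).symm (i, j))) (X_mem _) one_pos))
  rw [← hp.isoPullback_inv_snd]
  exact (MorphismProperty.cancel_left_of_respectsIso @IsClosedImmersion hp.isoPullback.inv _).mpr this

theorem exists_segre :
    ∃ φ : pullback (ProjSpace.toSpec n R) (ProjSpace.toSpec m R) ⟶ ProjSpace (n * m + n + m) R, IsClosedImmersion φ ∧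
      φ ≫ ProjSpace.toSpec _ R = pullback.fst _ _ ≫ ProjSpace.toSpec n R :=
  ⟨segre n m R, isClosedImmersion_segre, segre_toSpec⟩

end Groth.Agent.ProjCoord
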