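import Groth.Agent.ProjCoord.Extra
import Mathlib

/-!
The standard charts of projective space are affine spaces; projective space is smooth over the base.
-/

set_option autoImplicit false
set_option linter.style.haveILetI false

universe u

open CategoryTheory AlgebraicGeometry MvPolynomial HomogeneousLocalization CohB1

namespace Groth.Agent.ProjCoord

variable {R : Type u} [CommRing R] {n : ℕ}

/-- A standard chart of projective space is a polynomial ring. -/
noncomputable def chartEquiv (i : Fin (n + 1)) :
    MvPolynomial (Fin n) R ≃+* Away (polyGrading n R) (X i : MvPolynomial (Fin (n + 1)) R) :=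
  RingEquiv.ofRingHom (eval₂Hom (const i) fun j => ratio i (i.succAbove j))
    (awayEval (𝒜 := polyGrading n R) (x := X i)
      (eval₂Hom C (i.insertNth 1 fun j => (X j : MvPolynomial (Fin n) R))) (by simp))
    (by
      apply away_hom_ext
      · rw [RingHom.comp_assoc, awayEval_const]
        ext r
        simp
      · intro k
        have hk := awayEval_ratio (R := R) C (i.insertNth 1 fun j => (X j : MvPolynomial (Fin n) R)) i k
          (by simp)
        simp only [Fin.insertNth_apply_same, mul_one] at hk
        rw [RingHom.comp_apply, hk, RingHom.id_apply]
        obtain rfl | ⟨j, rfl⟩ := i.eq_self_or_eq_succAbove k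
        · simp [ratio_self]
        · simp)
    (by
      apply MvPolynomial.ringHom_ext
      · intro r
        have := RingHom.congr_fun (awayEval_const (R := R) C
          (i.insertNth 1 fun j => (X j : MvPolynomial (Fin n) R)) i (by simp)) r
        simpa using this
      · intro j
        have hk := awayEval_ratio (R := R) C (i.insertNth 1 fun j => (X j : MvPolynomial (Fin n) R)) i
          (i.succAbove j) (by simp)
        simpa using hk)

lemma smooth_const (i : Fin (n + 1)) : (const (R := R) i).Smooth := by
  letI := (const (R := R) i).toAlgebra
  let e : MvPolynomial (Fin n) R ≃ₐ[R] Away (polyGrading n R) (X i : MvPolynomial (Fin (n + 1)) R) :=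
    { chartEquiv i with commutes' := fun r => by simp [chartEquiv]; rfl }
  haveI : Algebra.Smooth R (MvPolynomial (Fin n) R) := ⟨inferInstance, inferInstance⟩
  exact Algebra.Smooth.of_equiv e

instance smooth_baseMap : Smooth (baseMap n R) := by
  refine IsZariskiLocalAtSource.of_openCover (cover n R).openCover fun i => ?_
  have : (cover n R).openCover.f i ≫ baseMap n R = Spec.map (CommRingCat.ofHom (const i.down)) := by
    show Proj.awayι _ (X i.down) _ _ ≫ Proj.toSpecZero _ ≫ Spec.map _ = _
    rw [Proj.awayι_toSpecZero_assoc, ← Spec.map_comp]
    rfl
  rw [this]
  exact (HasRingHomProperty.Spec_iff (P := @Smooth)).2 (smooth_const i.down)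

end Groth.Agent.ProjCoord
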