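import Groth.Agent.ProjCoord.Basic

/-! Points of projective space given by coordinates generating the unit ideal. -/

universe u

set_option autoImplicit false
set_option linter.style.haveILetI false

namespace Groth.Agent.ProjCoord

open CategoryTheory CategoryTheory.Limits AlgebraicGeometry HomogeneousLocalization MvPolynomial CohB1

variable {R : Type u} [CommRing R] {n : ℕ} {T : Scheme.{u}}

/-- The opens where one of the coordinates is invertible. -/
noncomputable def spanCover (v : Fin (n + 1) → Γ(T, ⊤)) (h : Ideal.span (Set.range v) = ⊤) :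
    T.OpenCover :=
  T.openCoverOfIsOpenCover (fun i : ULift.{u} (Fin (n + 1)) => T.basicOpen (v i.down)) (by
    refine TopologicalSpace.IsOpenCover.mk ?_
    rw [eq_top_iff]
    intro x _
    have hx : (T.toSpecΓ.base x) ∈ (⊤ : (Spec Γ(T, ⊤)).Opens) := trivial
    by_contra hne
    simp only [TopologicalSpace.Opens.mem_iSup, not_exists] at hne
    have hle : Ideal.span (Set.range v) ≤ (T.toSpecΓ.base x).asIdeal := by
      rw [Ideal.span_le]
      rintro _ ⟨i, rfl⟩
      by_contra hi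
      apply hne ⟨i⟩
      rw [← Scheme.toSpecΓ_preimage_basicOpen]
      exact hi
    rw [h, top_le_iff] at hle
    exact (T.toSpecΓ.base x).isPrime.ne_top hle)

lemma isUnit_restrict (v : Fin (n + 1) → Γ(T, ⊤)) (i : Fin (n + 1)) :
    IsUnit ((T.basicOpen (v i)).ι.appTop.hom (v i)) := by
  apply isUnit_of_basicOpen_eq_top
  rw [← Scheme.preimage_basicOpen_top]
  exact Scheme.Opens.ι_preimage_self _

lemma span_compat (ρ : R →+* Γ(T, ⊤)) (v : Fin (n + 1) → Γ(T, ⊤)) (i j : Fin (n + 1)) :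
    pullback.fst (T.basicOpen (v i)).ι (T.basicOpen (v j)).ι ≫
        pt ((T.basicOpen (v i)).ι.appTop.hom.comp ρ)
          (fun k => (T.basicOpen (v i)).ι.appTop.hom (v k)) i (isUnit_restrict v i) =
      pullback.snd _ _ ≫
        pt ((T.basicOpen (v j)).ι.appTop.hom.comp ρ)
          (fun k => (T.basicOpen (v j)).ι.appTop.hom (v k)) j (isUnit_restrict v j) := by
  have e : ∀ z, (pullback.fst (T.basicOpen (v i)).ι (T.basicOpen (v j)).ι).appTop.hom
        ((T.basicOpen (v i)).ι.appTop.hom z) =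
      (pullback.snd (T.basicOpen (v i)).ι (T.basicOpen (v j)).ι).appTop.hom
        ((T.basicOpen (v j)).ι.appTop.hom z) := fun z =>
    congrArg (fun f : _ ⟶ T => f.appTop.hom z) pullback.condition
  rw [pt_comp, pt_comp]
  have eρ : (pullback.fst (T.basicOpen (v i)).ι (T.basicOpen (v j)).ι).appTop.hom.comp
        ((T.basicOpen (v i)).ι.appTop.hom.comp ρ) =
      (pullback.snd (T.basicOpen (v i)).ι (T.basicOpen (v j)).ι).appTop.hom.comp
        ((T.basicOpen (v j)).ι.appTop.hom.comp ρ) := RingHom.ext fun r => e (ρ r)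
  simp only [eρ]
  exact pt_eq _ _ _ _ _ _ _ fun k l => by rw [e, e, mul_comm]

/-- The point with the given coordinates. -/
noncomputable def ptSpan (ρ : R →+* Γ(T, ⊤)) (v : Fin (n + 1) → Γ(T, ⊤))
    (h : Ideal.span (Set.range v) = ⊤) : T ⟶ Proj (polyGrading n R) :=
  (spanCover v h).glueMorphisms
    (fun i => pt ((T.basicOpen (v i.down)).ι.appTop.hom.comp ρ)
      (fun k => (T.basicOpen (v i.down)).ι.appTop.hom (v k)) i.down (isUnit_restrict v i.down))
    fun i j => span_compat ρ v i.down j.down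

lemma ι_ptSpan (ρ : R →+* Γ(T, ⊤)) (v : Fin (n + 1) → Γ(T, ⊤))
    (h : Ideal.span (Set.range v) = ⊤) (i : Fin (n + 1)) :
    (T.basicOpen (v i)).ι ≫ ptSpan ρ v h =
      pt ((T.basicOpen (v i)).ι.appTop.hom.comp ρ) (fun k => (T.basicOpen (v i)).ι.appTop.hom (v k)) i
        (isUnit_restrict v i) :=
  (spanCover v h).ι_glueMorphisms _ _ ⟨i⟩

lemma span_map {T' : Scheme.{u}} (g : T' ⟶ T) {v : Fin (n + 1) → Γ(T, ⊤)}
    (h : Ideal.span (Set.range v) = ⊤) : Ideal.span (Set.range fun k => g.appTop.hom (v k)) = ⊤ := by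
  have := congrArg (Ideal.map g.appTop.hom) h
  rwa [Ideal.map_span, Ideal.map_top, ← Set.range_comp] at this

lemma ptSpan_toSpec (ρ : R →+* Γ(T, ⊤)) (v : Fin (n + 1) → Γ(T, ⊤))
    (h : Ideal.span (Set.range v) = ⊤) :
    ptSpan ρ v h ≫ baseMap n R = T.toSpecΓ ≫ Spec.map (CommRingCat.ofHom ρ) := by
  apply (spanCover v h).hom_ext
  rintro ⟨i⟩
  show (T.basicOpen (v i)).ι ≫ ptSpan ρ v h ≫ baseMap n R = (T.basicOpen (v i)).ι ≫ _
  rw [← Category.assoc, ι_ptSpan, pt_toSpec, CommRingCat.ofHom_comp, Spec.map_comp,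
    CommRingCat.ofHom_hom, Scheme.toSpecΓ_naturality_assoc]

lemma ptSpan_eq (ρ : R →+* Γ(T, ⊤)) (v w : Fin (n + 1) → Γ(T, ⊤))
    (hv : Ideal.span (Set.range v) = ⊤) (hw : Ideal.span (Set.range w) = ⊤)
    (hvw : ∀ k l, v k * w l = v l * w k) : ptSpan ρ v hv = ptSpan ρ w hw := by
  have hu : ∀ i, IsUnit ((T.basicOpen (v i)).ι.appTop.hom (w i)) := by
    intro i
    let g := (T.basicOpen (v i)).ι
    obtain ⟨c, hc⟩ := (Ideal.mem_span_range_iff_exists_fun).mp
      (show (1 : Γ((T.basicOpen (v i) : T.Opens), ⊤)) ∈ Ideal.span (Set.range fun k => g.appTop.hom (w k)) by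
        rw [span_map g hw]; trivial)
    refine isUnit_of_mul_isUnit_left (y := ∑ k, c k * g.appTop.hom (v k)) ?_
    have : g.appTop.hom (w i) * (∑ k, c k * g.appTop.hom (v k)) = g.appTop.hom (v i) := by
      rw [Finset.mul_sum]
      calc _ = ∑ k, g.appTop.hom (v i) * (c k * g.appTop.hom (w k)) := Finset.sum_congr rfl fun k _ => by
            have := congrArg g.appTop.hom (hvw k i)
            simp only [map_mul] at this
            linear_combination c k * this
        _ = _ := by rw [← Finset.mul_sum, hc, mul_one]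
    rw [this]
    exact isUnit_restrict v i
  apply (spanCover v hv).hom_ext
  rintro ⟨i⟩
  show (T.basicOpen (v i)).ι ≫ _ = (T.basicOpen (v i)).ι ≫ _
  have hle : T.basicOpen (v i) ≤ T.basicOpen (w i) := by
    have := congrArg (fun U => (T.basicOpen (v i)).ι ''ᵁ U) (Scheme.preimage_basicOpen_top (T.basicOpen (v i)).ι (w i))
    simp only [Scheme.basicOpen_of_isUnit _ (hu i), Scheme.Hom.image_preimage_eq_opensRange_inf,
      Scheme.Hom.image_top_eq_opensRange, Scheme.Opens.opensRange_ι] at this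
    exact inf_eq_left.mp this
  refine (ι_ptSpan ρ v hv i).trans ?_
  refine Eq.trans ?_ (congrArg (fun f => f ≫ ptSpan ρ w hw) (T.homOfLE_ι hle))
  refine Eq.trans ?_ (Category.assoc _ _ _).symm
  rw [ι_ptSpan, pt_comp]
  have e : ∀ z, (T.homOfLE hle).appTop.hom ((T.basicOpen (w i)).ι.appTop.hom z) =
      (T.basicOpen (v i)).ι.appTop.hom z := fun z =>
    congrArg (fun f : _ ⟶ T => f.appTop.hom z) (T.homOfLE_ι hle)
  have eρ : (T.homOfLE hle).appTop.hom.comp ((T.basicOpen (w i)).ι.appTop.hom.comp ρ) =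
      (T.basicOpen (v i)).ι.appTop.hom.comp ρ := RingHom.ext fun r => e (ρ r)
  simp only [eρ]
  exact pt_eq _ _ _ _ _ _ _ fun k l => by
    rw [e, e, ← map_mul, hvw, map_mul]

lemma ptSpan_comp {T' : Scheme.{u}} (g : T' ⟶ T) (ρ : R →+* Γ(T, ⊤)) (v : Fin (n + 1) → Γ(T, ⊤))
    (h : Ideal.span (Set.range v) = ⊤) :
    g ≫ ptSpan ρ v h = ptSpan (g.appTop.hom.comp ρ) (fun k => g.appTop.hom (v k)) (span_map g h) := by
  apply (spanCover _ (span_map g h)).hom_ext
  rintro ⟨i⟩
  show (T'.basicOpen (g.appTop.hom (v i))).ι ≫ _ = (T'.basicOpen (g.appTop.hom (v i))).ι ≫ _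
  set U := T'.basicOpen (g.appTop.hom (v i))
  have hle : U ≤ g ⁻¹ᵁ T.basicOpen (v i) := (Scheme.preimage_basicOpen_top g (v i)).ge
  let g' := g.resLE (T.basicOpen (v i)) U hle
  have hg' : g' ≫ (T.basicOpen (v i)).ι = U.ι ≫ g := Scheme.Hom.resLE_comp_ι _ _
  refine Eq.trans ?_ (ι_ptSpan _ _ (span_map g h) i).symm
  rw [← Category.assoc, ← hg', Category.assoc, ι_ptSpan, pt_comp]
  have e : ∀ z, g'.appTop.hom ((T.basicOpen (v i)).ι.appTop.hom z) =
      U.ι.appTop.hom (g.appTop.hom z) := fun z =>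
    congrArg (fun f : _ ⟶ T => f.appTop.hom z) hg'
  have eρ : g'.appTop.hom.comp ((T.basicOpen (v i)).ι.appTop.hom.comp ρ) =
      U.ι.appTop.hom.comp (g.appTop.hom.comp ρ) := RingHom.ext fun r => e (ρ r)
  simp only [eρ]
  exact pt_eq _ _ _ _ _ _ _ fun k l => by rw [e, e, mul_comm]

lemma pt_eq_ptSpan (ρ : R →+* Γ(T, ⊤)) (v : Fin (n + 1) → Γ(T, ⊤)) (i : Fin (n + 1)) (hi : IsUnit (v i))
    (h : Ideal.span (Set.range v) = ⊤) : pt ρ v i hi = ptSpan ρ v h := by
  apply (spanCover v h).hom_ext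
  rintro ⟨j⟩
  show (T.basicOpen (v j)).ι ≫ pt ρ v i hi = (T.basicOpen (v j)).ι ≫ _
  rw [ι_ptSpan, pt_comp]
  exact pt_eq _ _ _ _ _ _ _ fun k l => mul_comm _ _

lemma ptSpan_preimage (ρ : R →+* Γ(T, ⊤)) (v : Fin (n + 1) → Γ(T, ⊤))
    (h : Ideal.span (Set.range v) = ⊤) (j : Fin (n + 1)) :
    ptSpan ρ v h ⁻¹ᵁ Proj.basicOpen (polyGrading n R) (X j) = T.basicOpen (v j) := by
  ext x
  obtain ⟨⟨i⟩, y, rfl⟩ : ∃ p y, (spanCover v h).f p y = x := ⟨_, (spanCover v h).covers x⟩
  have h2 := congrArg (fun U : TopologicalSpace.Opens _ => y ∈ U)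
    (pt_preimage ((T.basicOpen (v i)).ι.appTop.hom.comp ρ)
      (fun k => (T.basicOpen (v i)).ι.appTop.hom (v k)) i (isUnit_restrict v i) j)
  simp only [← ι_ptSpan ρ v h, ← Scheme.preimage_basicOpen_top] at h2
  exact Iff.of_eq h2

end Groth.Agent.ProjCoord
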